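import Mathlib
set_option linter.all false

/-!
# Doubly transitive groups with a TI normal subgroup of the point stabilizer, not semiregular: lines

`Sys N`: the group `G` acts faithfully and doubly transitively on `X`, `N a ≤ G_a` is an equivariant family of
subgroups meeting pairwise trivially, and `N a ⊓ G_b ≠ 1`. The sets `Fix (N a ⊓ G_b)` are the lines of a linear
space on `X`.
-/

set_option autoImplicit false

namespace Cfsg.Agent.H360.ON

open Subgroup MulAction

variable {G X : Type*} [Group G] [MulAction G X]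

/-- equivariant family over a doubly transitive action -/
structure Fam (N : X → Subgroup G) : Prop where
  two : ∀ a b c d : X, a ≠ b → c ≠ d → ∃ g : G, g • a = c ∧ g • b = d
  fix : ∀ a, ∀ x ∈ N a, x • a = a
  conj : ∀ (g : G) (a : X), ∀ x ∈ N a, g * x * g⁻¹ ∈ N (g • a)
  nsr : ∃ a b : X, a ≠ b ∧ ∃ x ∈ N a, x ≠ 1 ∧ x • b = b

/-- the stabilizer of `b` in `N a` -/
def A (N : X → Subgroup G) (a b : X) : Subgroup G := N a ⊓ stabilizer G b

theorem mem_A {N : X → Subgroup G} {a b : X} {x : G} : x ∈ A N a b ↔ x ∈ N a ∧ x • b = b := Iff.rfl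

variable {N : X → Subgroup G}

namespace Fam

variable (S : Fam N)
include S

theorem conj_iff (g : G) (a : X) (x : G) : g * x * g⁻¹ ∈ N (g • a) ↔ x ∈ N a := by
  constructor
  · intro h
    have h1 := S.conj g⁻¹ (g • a) _ h
    rw [inv_smul_smul] at h1
    have h2 : g⁻¹ * (g * x * g⁻¹) * g⁻¹⁻¹ = x := by group
    rwa [h2] at h1
  · exact S.conj g a x

theorem conj_A (g : G) (a b : X) (x : G) : g * x * g⁻¹ ∈ A N (g • a) (g • b) ↔ x ∈ A N a b := by
  rw [mem_A, mem_A, S.conj_iff]
  have : (g * x * g⁻¹) • g • b = g • b ↔ x • b = b := by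
    rw [mul_smul, mul_smul, inv_smul_smul, smul_left_cancel_iff]
  rw [this]

theorem map_A (g : G) (a b : X) : (A N a b).map (MulAut.conj g).toMonoidHom = A N (g • a) (g • b) := by
  ext y
  constructor
  · rintro ⟨x, hx, rfl⟩
    exact (S.conj_A g a b x).2 hx
  · intro hy
    refine ⟨g⁻¹ * y * g, ?_, ?_⟩
    · apply (S.conj_A g a b _).1
      have : g * (g⁻¹ * y * g) * g⁻¹ = y := by group
      rwa [this]
    · show g * (g⁻¹ * y * g) * g⁻¹ = y
      group

theorem map_N (g : G) (a : X) : (N a).map (MulAut.conj g).toMonoidHom = N (g • a) := by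
  ext y
  constructor
  · rintro ⟨x, hx, rfl⟩
    exact S.conj g a x hx
  · intro hy
    refine ⟨g⁻¹ * y * g, ?_, ?_⟩
    · apply (S.conj_iff g a _).1
      have : g * (g⁻¹ * y * g) * g⁻¹ = y := by group
      rwa [this]
    · show g * (g⁻¹ * y * g) * g⁻¹ = y
      group

theorem card_A {a b c d : X} (hab : a ≠ b) (hcd : c ≠ d) : Nat.card (A N a b) = Nat.card (A N c d) := by
  obtain ⟨g, rfl, rfl⟩ := S.two a b c d hab hcd
  rw [← S.map_A]
  exact Nat.card_congr ((A N a b).equivMapOfInjective _ (MulAut.conj g).injective).toEquiv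

theorem card_N (a b : X) : Nat.card (N a) = Nat.card (N b) := by
  by_cases hab : a = b
  · rw [hab]
  obtain ⟨g, h1, -⟩ := S.two a b b a hab (Ne.symm hab)
  rw [← h1, ← S.map_N]
  exact Nat.card_congr ((N a).equivMapOfInjective _ (MulAut.conj g).injective).toEquiv

theorem A_eq_of_le [Finite G] {a b c d : X} (hab : a ≠ b) (hcd : c ≠ d) (h : A N a b ≤ A N c d) :
    A N a b = A N c d := by
  apply Subgroup.eq_of_le_of_card_ge h
  rw [S.card_A hab hcd]

theorem exists_ne_one {a b : X} (hab : a ≠ b) : ∃ x ∈ A N a b, x ≠ 1 := by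
  obtain ⟨c, d, hcd, x, hx, hx1, hxd⟩ := S.nsr
  obtain ⟨g, rfl, rfl⟩ := S.two c d a b hcd hab
  refine ⟨g * x * g⁻¹, (S.conj_A g c d x).2 ⟨hx, hxd⟩, ?_⟩
  intro h
  exact hx1 (conj_eq_one_iff.1 h)

theorem two_le_card_A [Finite G] {a b : X} (hab : a ≠ b) : 2 ≤ Nat.card (A N a b) := by
  obtain ⟨x, hx, hx1⟩ := S.exists_ne_one hab
  have : Nontrivial (A N a b) := ⟨⟨⟨x, hx⟩, 1, fun h => hx1 (congrArg Subtype.val h)⟩⟩
  exact Finite.one_lt_card

/-- abelian families meet trivially -/
theorem ti_of_comm [Finite G] [FaithfulSMul G X] (hc : ∀ a, ∀ x ∈ N a, ∀ y ∈ N a, x * y = y * x) :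
    ∀ a b, a ≠ b → ∀ x ∈ N a, x ∈ N b → x = 1 := by
  classical
  -- `K a b = N a ⊓ N b` has constant order
  have hmapK : ∀ (g : G) (a b : X), (N a ⊓ N b).map (MulAut.conj g).toMonoidHom = N (g • a) ⊓ N (g • b) := by
    intro g a b
    rw [Subgroup.map_inf _ _ _ (MulAut.conj g).injective, S.map_N, S.map_N]
  have hcardK : ∀ a b c d : X, a ≠ b → c ≠ d → Nat.card ↥(N a ⊓ N b) = Nat.card ↥(N c ⊓ N d) := by
    intro a b c d hab hcd
    obtain ⟨g, rfl, rfl⟩ := S.two a b c d hab hcd
    rw [← hmapK]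
    exact Nat.card_congr ((N a ⊓ N b).equivMapOfInjective _ (MulAut.conj g).injective).toEquiv
  have hK : ∀ a b c d : X, a ≠ b → c ≠ d → N a ⊓ N b ≤ N c → N a ⊓ N b ≤ N d → N a ⊓ N b = N c ⊓ N d := by
    intro a b c d hab hcd h1 h2
    apply Subgroup.eq_of_le_of_card_ge (le_inf h1 h2)
    rw [hcardK a b c d hab hcd]
  -- elements of `N a` preserve the line through `a` and `d`
  have hline : ∀ (a d : X) (y : G), y ∈ N a → N a ⊓ N d ≤ N (y • d) := by
    intro a d y hy k hk
    have h1 : y * k * y⁻¹ = k := by rw [hc a y hy k hk.1]; group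
    have h2 := S.conj y d k hk.2
    rwa [h1] at h2
  intro a b hab x hxa hxb
  apply FaithfulSMul.eq_of_smul_eq_smul (α := X)
  intro d
  rw [one_smul]
  by_cases hd : N a ⊓ N b ≤ N d
  · exact S.fix d x (hd ⟨hxa, hxb⟩)
  by_contra hxd
  have had : a ≠ d := by
    rintro rfl
    exact hd inf_le_left
  have hbd : b ≠ d := by
    rintro rfl
    exact hd inf_le_right
  have h1 : N a ⊓ N d = N d ⊓ N (x • d) := hK a d d (x • d) had (Ne.symm hxd) inf_le_right (hline a d x hxa)
  have h2 : N b ⊓ N d = N d ⊓ N (x • d) := hK b d d (x • d) hbd (Ne.symm hxd) inf_le_right (hline b d x hxb)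
  have h3 : N a ⊓ N d ≤ N b := by
    rw [h1, ← h2]
    exact inf_le_left
  have h4 := hK a d a b had hab inf_le_left h3
  apply hd
  rw [← h4]
  exact inf_le_right

end Fam

/-- equivariant family of subgroups meeting pairwise trivially -/
structure Sys (N : X → Subgroup G) : Prop extends Fam N where
  ti : ∀ a b, a ≠ b → ∀ x ∈ N a, x ∈ N b → x = 1

/-- points on the line through `a` and `b` (for `a ≠ b`) -/
def OnLine (N : X → Subgroup G) (a b c : X) : Prop := ∀ x ∈ A N a b, x • c = c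

namespace Sys

variable (S : Sys N)
include S

/-- centralizers -/
theorem cent {a : X} {x g : G} (hx : x ∈ N a) (hx1 : x ≠ 1) (hg : g * x = x * g) : g • a = a := by
  by_contra h
  have h1 := S.conj g a x hx
  have h2 : g * x * g⁻¹ = x := by rw [hg]; group
  rw [h2] at h1
  exact hx1 (S.ti _ _ h x h1 hx)

theorem mem_stab_conj {a : X} {x y : G} (hx : x ∈ N a) (hy : y • a = a) : y * x * y⁻¹ ∈ N a := by
  have := S.conj y a x hx
  rwa [hy] at this

theorem comm_AB {a b : X} (hab : a ≠ b) {x y : G} (hx : x ∈ A N a b) (hy : y ∈ A N b a) : x * y = y * x := by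
  have h1 : x * y * x⁻¹ * y⁻¹ ∈ N a := by
    have h2 := S.mem_stab_conj (a := a) (x := x⁻¹) (y := y) (inv_mem hx.1) hy.2
    have h3 : x * y * x⁻¹ * y⁻¹ = x * (y * x⁻¹ * y⁻¹) := by group
    rw [h3]
    exact mul_mem hx.1 h2
  have h2 : x * y * x⁻¹ * y⁻¹ ∈ N b := mul_mem (S.mem_stab_conj hy.1 hx.2) (inv_mem hy.1)
  have h3 := S.ti a b hab _ h1 h2
  have h4 := mul_inv_eq_one.1 h3
  exact mul_inv_eq_iff_eq_mul.1 h4

/-- the main step: a point fixed by `A a b` is fixed by `A b a` -/
theorem A_swap [Finite G] {a b c : X} (hab : a ≠ b) (hca : c ≠ a) (hcb : c ≠ b) (h : OnLine N a b c) :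
    A N b c = A N b a := by
  classical
  apply S.A_eq_of_le hcb.symm hab.symm
  intro y hy
  by_contra hyB
  have hya : y • a ≠ a := fun h1 => hyB ⟨hy.1, h1⟩
  -- the map `x ↦ x y x⁻¹` is injective from `A a b` to `A b c` and misses `1`
  let f : A N a b → A N b c := fun x => ⟨x.1 * y * x.1⁻¹, by
    have h1 := (S.conj_A x.1 b c y).2 hy
    rwa [x.2.2, h _ x.2] at h1⟩
  have hf : Function.Injective f := by
    intro x x' hxx
    have h1 : x.1 * y * x.1⁻¹ = x'.1 * y * x'.1⁻¹ := congrArg Subtype.val hxx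
    by_contra hne
    have hz : x'.1⁻¹ * x.1 ∈ A N a b := mul_mem (inv_mem x'.2) x.2
    have hz1 : x'.1⁻¹ * x.1 ≠ 1 := by
      intro h2
      exact hne (Subtype.ext (inv_mul_eq_one.1 h2).symm)
    have h2 : y * (x'.1⁻¹ * x.1) = x'.1⁻¹ * x.1 * y := by
      have h3 : x.1 * y = x'.1 * y * x'.1⁻¹ * x.1 := by
        rw [← h1]; group
      rw [mul_assoc x'.1⁻¹, h3]; group
    exact hya (S.cent hz.1 hz1 h2)
  have hcard : Nat.card (A N a b) = Nat.card (A N b c) := S.card_A hab hcb.symm
  have hsurj : Function.Surjective f := by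
    have := Nat.bijective_iff_injective_and_card f
    exact (this.2 ⟨hf, hcard⟩).2
  obtain ⟨x, hx⟩ := hsurj 1
  have h1 : x.1 * y * x.1⁻¹ = 1 := congrArg Subtype.val hx
  have h2 : y = 1 := conj_eq_one_iff.1 h1
  apply hya
  rw [h2, one_smul]

theorem onLine_left {a b : X} : OnLine N a b a := fun x hx => S.fix a x hx.1

omit S in
theorem onLine_right {a b : X} : OnLine N a b b := fun _ hx => hx.2

/-- the same group on points of the line -/
theorem A_eq [Finite G] {a b c : X} (hab : a ≠ b) (hca : c ≠ a) (h : OnLine N a b c) : A N a c = A N a b :=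
  (S.A_eq_of_le hab hca.symm (fun x hx => ⟨hx.1, h x hx⟩)).symm

theorem onLine_swap [Finite G] {a b c : X} (hab : a ≠ b) (h : OnLine N a b c) : OnLine N b a c := by
  by_cases hca : c = a
  · rw [hca]; exact onLine_right
  by_cases hcb : c = b
  · rw [hcb]; exact S.onLine_left
  intro x hx
  rw [← S.A_swap hab hca hcb h] at hx
  exact hx.2

theorem onLine_swap_iff [Finite G] {a b c : X} (hab : a ≠ b) : OnLine N a b c ↔ OnLine N b a c :=
  ⟨S.onLine_swap hab, S.onLine_swap hab.symm⟩

/-- lines through `a` -/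
theorem onLine_congr_left [Finite G] {a b c d : X} (hab : a ≠ b) (hca : c ≠ a) (h : OnLine N a b c) :
    OnLine N a c d ↔ OnLine N a b d := by
  unfold OnLine
  rw [S.A_eq hab hca h]

/-- two points determine the line -/
theorem onLine_congr [Finite G] {a b c d e : X} (hab : a ≠ b) (hcd : c ≠ d) (hc : OnLine N a b c) (hd : OnLine N a b d) :
    OnLine N c d e ↔ OnLine N a b e := by
  by_cases hca : c = a
  · subst hca
    exact S.onLine_congr_left hab hcd.symm hd
  · have h1 : OnLine N c a d := S.onLine_swap (Ne.symm hca) ((S.onLine_congr_left hab hca hc).2 hd)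
    rw [S.onLine_congr_left hca hcd.symm h1, S.onLine_swap_iff hca, S.onLine_congr_left hab hca hc]

theorem onLine_smul {a b c : X} (g : G) : OnLine N (g • a) (g • b) (g • c) ↔ OnLine N a b c := by
  constructor
  · intro h x hx
    have h1 := h _ ((S.conj_A g a b x).2 hx)
    rwa [mul_smul, mul_smul, inv_smul_smul, smul_left_cancel_iff] at h1
  · intro h x hx
    have h1 : g⁻¹ * x * g ∈ A N a b := by
      apply (S.conj_A g a b _).1
      have : g * (g⁻¹ * x * g) * g⁻¹ = x := by group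
      rwa [this]
    have h2 := h _ h1
    rw [mul_smul, mul_smul, inv_smul_eq_iff] at h2
    exact h2

/-- not every point is on a line -/
theorem exists_off [FaithfulSMul G X] {a b : X} (hab : a ≠ b) : ∃ c, ¬ OnLine N a b c := by
  by_contra h
  push Not at h
  obtain ⟨x, hx, hx1⟩ := S.exists_ne_one hab
  apply hx1
  apply FaithfulSMul.eq_of_smul_eq_smul (α := X)
  intro c
  rw [one_smul]
  exact h c x hx

end Sys

end Cfsg.Agent.H360.ON
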