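import Cfsg.Agent.H360.ON.Main
set_option linter.all false

/-!
# The number of points
-/

set_option autoImplicit false

namespace Cfsg.Agent.H360.ON

open Subgroup MulAction
open Cfsg.Agent.AGraded Cfsg.Agent.TitsThree

variable {G X : Type*} [Group G] [MulAction G X] {N : X → Subgroup G}

namespace Ab

variable (S : Ab N)
include S

/-- points of the span of a subspace and a further point `δ` are joined to `δ` by a line meeting the subspace -/
theorem exists_meet [Finite G] [Finite X] [FaithfulSMul G X] {a : X} (T : Finset X) {δ ε : X}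
    (hδ : δ ∉ sp N (insert a (T : Set X))) (hε : ε ∈ sp N (insert a (insert δ (T : Set X)))) (hδε : δ ≠ ε) :
    ∃ γ ∈ sp N (insert a (T : Set X)), OnLine N δ ε γ := by
  classical
  by_contra hno
  push Not at hno
  have hex : ∃ x ∈ N a, (∀ t ∈ T, x • t = t) ∧ x • δ ≠ δ := by
    by_contra hno
    push Not at hno
    exact hδ (S.mem_sp T δ hno)
  obtain ⟨x, hx, hxT, hxδ⟩ := hex
  have hoff : ¬ OnLine N δ ε a := hno a (subset_sp _ (Set.mem_insert _ _))
  obtain ⟨γ, hγ, hxγ⟩ := S.exists_fixed hδε hoff hx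
  have hγa : a ≠ γ := by
    rintro rfl
    exact hoff hγ
  obtain ⟨U, hU, hF, hdec⟩ := S.decomp hγa ⟨hx, hxγ⟩ hxδ
  refine hno γ ?_ hγ
  apply S.mem_sp
  intro w hw hwT
  obtain ⟨u, hu, z, hz, rfl⟩ := hdec w hw
  have huT : ∀ t : X, x • t = t → u • t = t := by
    intro t ht
    by_cases hu1 : u = 1
    · rw [hu1, one_smul]
    · have h1 : t ∈ Fx X x := ht
      rw [← hF u hu hu1] at h1
      exact h1
  have hzT : ∀ t ∈ T, z • t = t := by
    intro t ht
    have h1 := hwT t ht
    have h2 := huT t (hxT t ht)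
    rw [mul_smul] at h1
    have h3 : u • z • t = u • t := h1.trans h2.symm
    exact (smul_left_cancel_iff u).1 h3
  have hzε : z • ε = ε := by
    refine S.sp_le_Fx hz.1 (T := insert a (insert δ (T : Set X))) ?_ ε hε
    rintro t (rfl | rfl | ht)
    · exact S.fix _ z hz.1
    · exact hz.2
    · exact hzT t ht
  have hzγ : z • γ = γ := S.fix_line hz.1 hδε hoff hz.2 hzε hγ
  rw [mul_smul, hzγ, huT γ hxγ]

theorem card_sp_succ [Finite G] [Finite X] [FaithfulSMul G X] {q : ℕ} (hq2 : 2 ≤ q)
    (hq : ∀ a b : X, a ≠ b →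
      Nat.card {c : X // ∃ x ∈ N a, x • b = c} = q ∧ Nat.card (N a) = q * Nat.card (A N a b)) {a : X} (T : Finset X)
    {δ : X} (hδ : δ ∉ sp N (insert a (T : Set X))) :
    Nat.card ↥(sp N (insert a (insert δ (T : Set X)))) = 1 + Nat.card ↥(sp N (insert a (T : Set X))) * q := by
  classical
  set S0 := sp N (insert a (T : Set X)) with hS0
  set S1 := sp N (insert a (insert δ (T : Set X))) with hS1
  have h01 : S0 ⊆ S1 := sp_mono (Set.insert_subset_insert (Set.subset_insert _ _))
  have hδ1 : δ ∈ S1 := subset_sp _ (by simp)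
  have hne : ∀ s ∈ S0, δ ≠ s := by
    rintro s hs rfl
    exact hδ hs
  have hsub : IsSub N S1 := isSub_sp _
  -- the map
  let f : Option (Σ s : S0, {c : X // ∃ x ∈ N δ, x • s.1 = c}) → S1 := fun o =>
    match o with
    | none => ⟨δ, hδ1⟩
    | some p => ⟨p.2.1, by
        obtain ⟨x, hx, h⟩ := p.2.2
        rw [← h]
        exact hsub δ hδ1 p.1.1 (h01 p.1.2) (hne _ p.1.2) _ (S.pres hx Sys.onLine_right)⟩
  have hon : ∀ (s : S0) (c : {c : X // ∃ x ∈ N δ, x • s.1 = c}), OnLine N δ s.1 c.1 ∧ c.1 ≠ δ := by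
    rintro s ⟨c, x, hx, rfl⟩
    refine ⟨S.pres hx Sys.onLine_right, ?_⟩
    intro h
    apply hne s.1 s.2
    have h1 : x • s.1 = x • δ := h.trans (S.fix δ x hx).symm
    exact ((smul_left_cancel_iff x).1 h1).symm
  have hf : Function.Injective f := by
    rintro (_ | ⟨s, c⟩) (_ | ⟨s', c'⟩) h
    · rfl
    · exact absurd (congrArg (fun z : S1 => z.1) h).symm (hon s' c').2
    · exact absurd (congrArg (fun z : S1 => z.1) h) (hon s c).2
    · have h2 : c.1 = c'.1 := congrArg (fun z : S1 => z.1) h
      have h3 := hon s c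
      have h4 := hon s' c'
      rw [← h2] at h4
      have h5 : s = s' := by
        by_contra hss
        have hss' : s.1 ≠ s'.1 := fun h => hss (Subtype.ext h)
        -- both on the line δ c
        have hs : OnLine N δ c.1 s.1 := by
          rw [S.onLine_congr (hne s.1 s.2) h3.2.symm S.onLine_left h3.1]
          exact Sys.onLine_right
        have hs' : OnLine N δ c.1 s'.1 := by
          rw [S.onLine_congr (hne s'.1 s'.2) h3.2.symm S.onLine_left h4.1]
          exact Sys.onLine_right
        apply hδ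
        refine isSub_sp _ s.1 s.2 s'.1 s'.2 hss' δ ?_
        rw [S.onLine_congr h3.2.symm hss' hs hs']
        exact S.onLine_left
      subst h5
      have h6 : c = c' := Subtype.ext h2
      rw [h6]
  have hsurj : Function.Surjective f := by
    rintro ⟨ε, hε⟩
    by_cases hδε : δ = ε
    · exact ⟨none, Subtype.ext hδε⟩
    · obtain ⟨γ, hγ, hl⟩ := S.exists_meet T hδ hε hδε
      have hγδ := hne γ hγ
      obtain ⟨x, hx, hxε⟩ := S.trans hγδ (by
        rw [S.onLine_congr hδε hγδ S.onLine_left hl]
        exact Sys.onLine_right : OnLine N δ γ ε) (Ne.symm hδε)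
      exact ⟨some ⟨⟨γ, hγ⟩, ⟨ε, x, hx, hxε⟩⟩, rfl⟩
  have h1 := Nat.card_congr (Equiv.ofBijective f ⟨hf, hsurj⟩)
  rw [← h1]
  let _ : Fintype S0 := Fintype.ofFinite _
  let _ : Fintype (Σ s : S0, {c : X // ∃ x ∈ N δ, x • s.1 = c}) := Fintype.ofFinite _
  rw [Nat.card_eq_fintype_card, Fintype.card_option, ← Nat.card_eq_fintype_card, Nat.card_sigma,
    Finset.sum_congr rfl (fun s _ => (hq δ s.1 (hne s.1 s.2)).1), Finset.sum_const, smul_eq_mul, Finset.card_univ,
    ← Nat.card_eq_fintype_card, add_comm]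

theorem card_X [Finite G] [Finite X] [FaithfulSMul G X] {q : ℕ} (hq2 : 2 ≤ q)
    (hq : ∀ a b : X, a ≠ b →
      Nat.card {c : X // ∃ x ∈ N a, x • b = c} = q ∧ Nat.card (N a) = q * Nat.card (A N a b)) {n : ℕ} (hn : 1 ≤ n)
    {p : Fin n → X} (P : Frame N p) : Nat.card X * (q - 1) + 1 = q ^ n := by
  classical
  have hinj := Frame.inj P
  let i0 : Fin n := ⟨0, hn⟩
  -- the spans of initial segments
  have key : ∀ k : ℕ, k < n → Nat.card ↥(sp N (insert (p i0) (((Finset.univ.filter (fun i : Fin n => i.1 ≤ k)).image p :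
      Finset X) : Set X))) * (q - 1) + 1 = q ^ (k + 1) := by
    intro k
    induction k with
    | zero =>
      intro _
      have h1 : sp N (insert (p i0) (((Finset.univ.filter (fun i : Fin n => i.1 ≤ 0)).image p : Finset X) : Set X)) =
          {p i0} := by
        apply Set.Subset.antisymm
        · apply sp_le
          · intro a ha b hb hab
            rw [Set.mem_singleton_iff.1 ha, Set.mem_singleton_iff.1 hb] at hab
            exact absurd rfl hab
          · rintro c (rfl | hc)
            · rfl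
            · obtain ⟨i, hi, rfl⟩ := Finset.mem_image.1 (Finset.mem_coe.1 hc)
              have h2 : i.1 ≤ 0 := by simpa using hi
              have h3 : i = i0 := Fin.ext (by simpa [i0] using h2)
              rw [h3]; rfl
        · rintro c hc
          rw [Set.mem_singleton_iff.1 hc]
          exact subset_sp _ (Set.mem_insert _ _)
      rw [h1]
      simp
      omega
    | succ k ih =>
      intro hk
      have ih := ih (by omega)
      set T := (Finset.univ.filter (fun i : Fin n => i.1 ≤ k)).image p with hT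
      have hT' : (((Finset.univ.filter (fun i : Fin n => i.1 ≤ k + 1)).image p : Finset X) : Set X) =
          insert (p ⟨k + 1, hk⟩) (T : Set X) := by
        rw [hT, ← Finset.coe_insert, ← Finset.image_insert]
        congr 2
        ext i
        simp only [Finset.mem_filter, Finset.mem_univ, true_and, Finset.mem_insert]
        constructor
        · intro h
          rcases Nat.lt_or_ge i.1 (k + 1) with h1 | h1
          · exact Or.inr (by omega)
          · exact Or.inl (Fin.ext (by simp; omega))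
        · rintro (rfl | h)
          · exact le_rfl
          · omega
      have hδ : p ⟨k + 1, hk⟩ ∉ sp N (insert (p i0) (T : Set X)) := by
        intro h
        apply P.indep ⟨k + 1, hk⟩
        apply sp_mono _ h
        rintro c (rfl | hc)
        · exact ⟨i0, by simp [i0, Fin.ext_iff], rfl⟩
        · obtain ⟨i, hi, rfl⟩ := Finset.mem_image.1 (Finset.mem_coe.1 hc)
          have h2 : i.1 ≤ k := by simpa using hi
          refine ⟨i, ?_, rfl⟩
          intro h3
          rw [h3] at h2
          simp at h2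
      rw [hT', S.card_sp_succ hq2 hq T hδ, pow_succ, ← ih]
      obtain ⟨r, rfl⟩ : ∃ r, q = r + 1 := ⟨q - 1, by omega⟩
      simp only [Nat.add_sub_cancel]
      ring
  have h1 := key (n - 1) (by omega)
  have h2 : sp N (insert (p i0) (((Finset.univ.filter (fun i : Fin n => i.1 ≤ n - 1)).image p : Finset X) : Set X)) =
      Set.univ := by
    apply Set.eq_univ_of_univ_subset
    rw [← P.span]
    apply sp_mono
    rintro _ ⟨i, rfl⟩
    right
    simp only [Finset.coe_image, Finset.coe_filter, Finset.mem_univ, true_and]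
    exact ⟨i, by simp; omega, rfl⟩
  rw [h2, Nat.card_congr (Equiv.Set.univ X), show n - 1 + 1 = n by omega] at h1
  exact h1

/-- **Recognition with the number of points.** -/
theorem psl_card [Finite G] [Finite X] [FaithfulSMul G X] (hgen : (⨆ a, N a) = ⊤) :
    ∃ (F : Type) (_ : Field F) (_ : Fintype F) (n : ℕ), 3 ≤ n ∧
      Nonempty (G ≃* Matrix.ProjectiveSpecialLinearGroup (Fin n) F) ∧
      Nat.card X * (Fintype.card F - 1) = Fintype.card F ^ n - 1 := by
  classical
  have hsimple := S.simple hgen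
  obtain ⟨n, p, hn, P⟩ := S.exists_frame
  obtain ⟨q, hq2, hq⟩ := S.exists_q
  have h3 : ∀ i j : Fin n, ∃ k, i ≠ k ∧ j ≠ k := by
    intro i j
    have h4 : (({i, j} : Finset (Fin n))ᶜ).Nonempty := by
      rw [← Finset.card_pos, Finset.card_compl, Fintype.card_fin]
      have := Finset.card_le_two (a := i) (b := j)
      omega
    obtain ⟨k, hk⟩ := h4
    simp only [Finset.mem_compl, Finset.mem_insert, Finset.mem_singleton, not_or] at hk
    exact ⟨k, fun h => hk.1 h.symm, fun h => hk.2 h.symm⟩
  have hcX := S.card_X hq2 hq (by omega) P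
  have hfin : Nat.card X * (q - 1) = q ^ n - 1 := by omega
  have hg := S.graded P
  have hgK : ∀ K : Subgroup G, (∀ i j, i ≠ j → Xr N p i j ≤ K) → K = ⊤ := by
    intro K hK
    rw [eq_top_iff, ← hgen]
    exact iSup_le (S.gen P h3 hK)
  rcases Nat.lt_or_ge n 4 with h4 | h4
  · have hn3 : n = 3 := by omega
    subst hn3
    obtain ⟨F, i1, i2, x, hx, hX⟩ := A2Field.exists_field hg (S.rgd P h3)
    have hF : Fintype.card F = q := by
      rw [← S.card_root P h3 hq (show (0 : Fin 3) ≠ 1 by decide), ← Nat.card_eq_fintype_card]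
      refine Nat.card_congr (Equiv.ofBijective (fun a => ⟨x 0 1 a, (hX 0 1 (by decide)).1 a⟩) ⟨?_, ?_⟩)
      · intro a b hab
        have h5 : x 0 1 a = x 0 1 b := congrArg Subtype.val hab
        obtain ⟨c, -, hc⟩ := (hX 0 1 (by decide)).2 (x 0 1 a) ((hX 0 1 (by decide)).1 a)
        rw [hc a rfl, hc b h5.symm]
      · rintro ⟨y, hy⟩
        obtain ⟨a, ha, -⟩ := (hX 0 1 (by decide)).2 y hy
        exact ⟨a, Subtype.ext ha⟩
    refine ⟨F, i1, i2, 3, le_rfl, nonempty_psl hx (by simp) ?_, by rw [hF]; exact hfin⟩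
    apply hgK
    intro i j hij y hy
    obtain ⟨a, ha, -⟩ := (hX i j hij).2 y hy
    exact subset_closure ⟨i, j, hij, a, ha.symm⟩
  · obtain ⟨F, i1, i2, hF, -, h⟩ := hg.exists_psl (by simpa using h4) hgK
    have hF' : Fintype.card F = q := by
      have h01 : (⟨0, by omega⟩ : Fin n) ≠ ⟨1, by omega⟩ := by simp [Fin.ext_iff]
      rw [hF _ _ h01, S.card_root P h3 hq h01]
    exact ⟨F, i1, i2, n, hn, h, by rw [hF']; exact hfin⟩

end Ab

/-- **O'Nan's theorem** with the number of points. -/
theorem onan_card [Finite G] [Finite X] [FaithfulSMul G X] {N : X → Subgroup G} (S : Ab N) :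
    (⨆ a, N a : Subgroup G).Normal ∧ centralizer ((⨆ a, N a : Subgroup G) : Set G) = ⊥ ∧
    IsSimpleGroup ↥(⨆ a, N a : Subgroup G) ∧ ¬ IsMulCommutative ↥(⨆ a, N a : Subgroup G) ∧
    ∃ (F : Type) (_ : Field F) (_ : Fintype F) (n : ℕ), 3 ≤ n ∧
      Nonempty (↥(⨆ a, N a : Subgroup G) ≃* Matrix.ProjectiveSpecialLinearGroup (Fin n) F) ∧
      Nat.card X * (Fintype.card F - 1) = Fintype.card F ^ n - 1 := by
  obtain ⟨h1, h2, h3, h4, -⟩ := onan S
  exact ⟨h1, h2, h3, h4, S.restrict.psl_card S.restrict_gen⟩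

end Cfsg.Agent.H360.ON
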