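import Cfsg.Agent.H360.ON.Sys
import Cfsg.Agent.AGraded.Coord
import Cfsg.Agent.TitsThree.A2Field
import Cfsg.Agent.SignalizersComponents.Components
import Cfsg.Agent.SignalizersComponents.IntrinsicDiag
set_option linter.all false

-- part: H360/ON/Ab
section
/-!
# Abelian families: elations
-/

set_option autoImplicit false

namespace Cfsg.Agent.H360.ON

open Subgroup MulAction

variable {G X : Type*} [Group G] [MulAction G X]

/-- equivariant family of abelian subgroups meeting pairwise trivially -/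
structure Ab (N : X → Subgroup G) : Prop extends Sys N where
  comm : ∀ a, ∀ x ∈ N a, ∀ y ∈ N a, x * y = y * x

variable {N : X → Subgroup G}

/-- the fixed points -/
def Fx (X : Type*) {G : Type*} [Group G] [MulAction G X] (x : G) : Set X := {c | x • c = c}

omit [Group G] [MulAction G X] in
theorem mem_Fx {G : Type*} [Group G] [MulAction G X] {x : G} {c : X} : c ∈ Fx X x ↔ x • c = c := Iff.rfl

theorem Fx_conj_ncard (g x : G) : (Fx X (g * x * g⁻¹)).ncard = (Fx X x).ncard := by
  have h : Fx X (g * x * g⁻¹) = (fun c => g • c) '' Fx X x := by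
    ext c
    constructor
    · intro hc
      refine ⟨g⁻¹ • c, ?_, smul_inv_smul g c⟩
      show x • g⁻¹ • c = g⁻¹ • c
      rw [eq_inv_smul_iff, ← mul_smul, ← mul_smul]
      exact hc
    · rintro ⟨d, hd, rfl⟩
      show (g * x * g⁻¹) • g • d = g • d
      rw [mul_smul, mul_smul, inv_smul_smul, mem_Fx.1 hd]
  rw [h]
  exact Set.ncard_image_of_injective _ (MulAction.injective g)

namespace Ab

variable (S : Ab N)
include S

/-- elements of `N a` preserve the lines through `a` -/
theorem pres {a b c : X} {x : G} (hx : x ∈ N a) (h : OnLine N a b c) : OnLine N a b (x • c) := by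
  intro y hy
  rw [← mul_smul, S.comm a y hy.1 x hx, mul_smul, h y hy]

/-- an element fixing two points `c`, `d` and preserving all lines through a third point `a` off the line `cd` fixes the
line pointwise -/
theorem fix_line [Finite G] {a c d e : X} {x : G} (hx : x ∈ N a) (hcd : c ≠ d) (ha : ¬ OnLine N c d a)
    (hc : x • c = c) (hd : x • d = d) (he : OnLine N c d e) : x • e = e := by
  by_contra hne
  apply ha
  have hea : e ≠ a := by
    rintro rfl
    exact hne (S.fix _ x hx)
  have h1 : OnLine N c d (x • e) := by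
    have h2 := (S.onLine_smul x).2 he
    rwa [hc, hd] at h2
  have h2 : OnLine N a e (x • e) := S.pres hx Sys.onLine_right
  have h3 : OnLine N e (x • e) a ↔ OnLine N a e a := S.onLine_congr hea.symm (Ne.symm hne) Sys.onLine_right h2
  have h4 : OnLine N e (x • e) a ↔ OnLine N c d a := S.onLine_congr hcd (Ne.symm hne) he h1
  rw [← h4, h3]
  exact S.onLine_left

theorem br_mem [Finite G] {a b : X} (hab : a ≠ b) {v y : G} (hv : v ∈ N a) (hy : y ∈ A N b a) :
    v * y * v⁻¹ * y⁻¹ ∈ A N a b := by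
  constructor
  · have h2 := S.mem_stab_conj (a := a) (x := v⁻¹) (y := y) (inv_mem hv) hy.2
    have h3 : v * y * v⁻¹ * y⁻¹ = v * (y * v⁻¹ * y⁻¹) := by group
    rw [h3]
    exact mul_mem hv h2
  · show (v * y * v⁻¹ * y⁻¹) • b = b
    have h1 : y⁻¹ • b = b := S.fix b _ (inv_mem hy.1)
    have h2 : OnLine N b a (v⁻¹ • b) := S.onLine_swap hab (S.pres (inv_mem hv) Sys.onLine_right)
    rw [mul_smul, h1, mul_smul, mul_smul, h2 y hy, smul_inv_smul]

theorem br_mul_right [Finite G] {a b : X} (hab : a ≠ b) {v y y' : G} (hv : v ∈ N a) (hy : y ∈ A N b a)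
    (hy' : y' ∈ A N b a) : v * (y * y') * v⁻¹ * (y * y')⁻¹ = (v * y * v⁻¹ * y⁻¹) * (v * y' * v⁻¹ * y'⁻¹) := by
  have h1 := S.comm_AB hab (S.br_mem hab hv hy') hy
  have h2 : v * (y * y') * v⁻¹ * (y * y')⁻¹ = (v * y * v⁻¹) * ((v * y' * v⁻¹ * y'⁻¹) * y⁻¹) := by group
  have h3 : (v * y' * v⁻¹ * y'⁻¹) * y⁻¹ = y⁻¹ * (v * y' * v⁻¹ * y'⁻¹) := by
    rw [mul_inv_eq_iff_eq_mul, mul_assoc y⁻¹, h1]; group
  rw [h2, h3]; group

theorem br_mul_left [Finite G] {a b : X} {v v' y : G} (hv : v ∈ N a) (hv' : v' ∈ N a) (hy : y ∈ A N b a) :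
    (v * v') * y * (v * v')⁻¹ * y⁻¹ = (v * y * v⁻¹ * y⁻¹) * (v' * y * v'⁻¹ * y⁻¹) := by
  have h0 : ∀ w ∈ N a, w * y * w⁻¹ * y⁻¹ ∈ N a := by
    intro w hw
    have h2 := S.mem_stab_conj (a := a) (x := w⁻¹) (y := y) (inv_mem hw) hy.2
    have h3 : w * y * w⁻¹ * y⁻¹ = w * (y * w⁻¹ * y⁻¹) := by group
    rw [h3]
    exact mul_mem hw h2
  have h1 : (v * v') * y * (v * v')⁻¹ * y⁻¹ = v * (v' * y * v'⁻¹ * y⁻¹) * v⁻¹ * (v * y * v⁻¹ * y⁻¹) := by group
  rw [h1, S.comm a v hv _ (h0 v' hv')]
  have h2 := S.comm a _ (h0 v' hv') _ (h0 v hv)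
  rw [← h2]; group

theorem br_ne_one {a b : X} {v y : G} (hv : v • b ≠ b) (hy : y ∈ A N b a) (hy1 : y ≠ 1) :
    v * y * v⁻¹ * y⁻¹ ≠ 1 := by
  intro h
  have h1 := mul_inv_eq_one.1 h
  exact hv (S.cent hy.1 hy1 (mul_inv_eq_iff_eq_mul.1 h1))

theorem br_eq_one [Finite G] {a b : X} (hab : a ≠ b) {v y : G} (hv : v ∈ A N a b) (hy : y ∈ A N b a) :
    v * y * v⁻¹ * y⁻¹ = 1 := by
  rw [S.comm_AB hab hv hy]; group

/-- some element of `N a` moves `b` -/
theorem exists_moves [FaithfulSMul G X] {a b : X} (hab : a ≠ b) : ∃ v ∈ N a, v • b ≠ b := by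
  by_contra h
  push Not at h
  obtain ⟨x, hx, hx1⟩ := S.exists_ne_one hab
  apply hx1
  apply FaithfulSMul.eq_of_smul_eq_smul (α := X)
  intro c
  rw [one_smul]
  by_cases hca : c = a
  · rw [hca]; exact S.fix a x hx.1
  obtain ⟨g, hg1, hg2⟩ := S.two a b a c hab (Ne.symm hca)
  have h1 := S.conj g⁻¹ a x hx.1
  have h3 : g⁻¹ • a = a := by rw [inv_smul_eq_iff, hg1]
  rw [h3] at h1
  have h2 := h _ h1
  rw [← hg2]
  rw [inv_inv, mul_smul, mul_smul, inv_smul_eq_iff] at h2
  exact h2

/-- the fixed points of `y` are fixed by the commutator -/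
theorem Fx_subset [Finite G] {a b : X} (hab : a ≠ b) {v y : G} (hv : v ∈ N a) (hy : y ∈ A N b a) :
    Fx X y ⊆ Fx X (v * y * v⁻¹ * y⁻¹) := by
  intro c hc
  rw [mem_Fx] at hc ⊢
  by_cases hl : OnLine N a b c
  · exact hl _ (S.br_mem hab hv hy)
  have hca : c ≠ a := by
    rintro rfl
    exact hl S.onLine_left
  have hac := hca.symm
  have hb : ¬ OnLine N a c b := by
    intro h
    apply hl
    rw [S.onLine_congr hac hab S.onLine_left h]
    exact Sys.onLine_right
  have hy' : y⁻¹ • c = c := by rw [inv_smul_eq_iff, hc]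
  have h1 : OnLine N a c (v⁻¹ • c) := S.pres (inv_mem hv) Sys.onLine_right
  have h2 : y • v⁻¹ • c = v⁻¹ • c := S.fix_line hy.1 hac hb hy.2 hc h1
  rw [mul_smul, hy', mul_smul, mul_smul, h2, smul_inv_smul]

/-- the bijection `y ↦ [v, y]` -/
theorem exists_equiv [Finite G] {a b : X} (hab : a ≠ b) {v : G} (hv : v ∈ N a) (hvb : v • b ≠ b) :
    ∃ E : A N b a ≃ A N a b, ∀ y, (E y).1 = v * y.1 * v⁻¹ * y.1⁻¹ := by
  let f : A N b a → A N a b := fun y => ⟨_, S.br_mem hab hv y.2⟩
  have hf : Function.Injective f := by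
    intro y y' h
    have h1 : v * y.1 * v⁻¹ * y.1⁻¹ = v * y'.1 * v⁻¹ * y'.1⁻¹ := congrArg Subtype.val h
    by_contra hne
    have hz : y.1⁻¹ * y'.1 ∈ A N b a := mul_mem (inv_mem y.2) y'.2
    have hz1 : y.1⁻¹ * y'.1 ≠ 1 := by
      intro h2
      exact hne (Subtype.ext (inv_mul_eq_one.1 h2))
    apply S.br_ne_one hvb hz hz1
    have h2 : y' = y * (y⁻¹ * y') := by group
    have h3 := S.br_mul_right hab hv y.2 hz
    have h4 : y.1 * (y.1⁻¹ * y'.1) = y'.1 := by group
    rw [h4, ← h1] at h3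
    exact (mul_eq_left.1 h3.symm)
  have hcard : Nat.card (A N b a) = Nat.card (A N a b) := S.card_A hab.symm hab
  exact ⟨Equiv.ofBijective f ((Nat.bijective_iff_injective_and_card f).2 ⟨hf, hcard⟩), fun y => rfl⟩

/-- the fixed points of `y` and of the commutator agree -/
theorem Fx_eq [Finite G] [Finite X] {a b : X} (hab : a ≠ b) {v y : G} (hv : v ∈ N a) (hvb : v • b ≠ b)
    (hy : y ∈ A N b a) : Fx X (v * y * v⁻¹ * y⁻¹) = Fx X y := by
  classical
  obtain ⟨E, hE⟩ := S.exists_equiv hab hv hvb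
  obtain ⟨g, hg1, hg2⟩ := S.two a b b a hab hab.symm
  -- conjugation by `g`
  let f' : A N a b → A N b a := fun x => ⟨g * x.1 * g⁻¹, by
    have := (S.conj_A g a b x.1).2 x.2
    rwa [hg1, hg2] at this⟩
  have hf' : Function.Injective f' := by
    intro x x' h
    have h1 : g * x.1 * g⁻¹ = g * x'.1 * g⁻¹ := congrArg Subtype.val h
    exact Subtype.ext (mul_left_cancel (mul_right_cancel h1))
  have hcard : Nat.card (A N a b) = Nat.card (A N b a) := S.card_A hab hab.symm
  let E' : A N a b ≃ A N b a :=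
    Equiv.ofBijective f' ((Nat.bijective_iff_injective_and_card f').2 ⟨hf', hcard⟩)
  let _ : Fintype (A N a b) := Fintype.ofFinite _
  let _ : Fintype (A N b a) := Fintype.ofFinite _
  have h1 : ∑ y : A N b a, (Fx X (E y).1).ncard = ∑ y : A N b a, (Fx X y.1).ncard := by
    rw [Equiv.sum_comp E (fun x : A N a b => (Fx X x.1).ncard), ← Equiv.sum_comp E' (fun x : A N b a => (Fx X x.1).ncard)]
    refine Finset.sum_congr rfl (fun x _ => ?_)
    exact (Fx_conj_ncard g x.1).symm
  have hle : ∀ y ∈ (Finset.univ : Finset (A N b a)), (Fx X y.1).ncard ≤ (Fx X (E y).1).ncard := by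
    intro y _
    rw [hE]
    exact Set.ncard_le_ncard (S.Fx_subset hab hv y.2) (Set.toFinite _)
  have h2 := (Finset.sum_eq_sum_iff_of_le hle).1 h1.symm ⟨y, hy⟩ (Finset.mem_univ _)
  have h3 := Set.eq_of_subset_of_ncard_le (S.Fx_subset hab hv hy) (by
    rw [hE] at h2
    exact h2.ge) (Set.toFinite _)
  exact h3.symm

/-- the size of the orbits -/
theorem card_orbit [Finite G] [Finite X] (a b : X) :
    Nat.card {c : X // ∃ x ∈ N a, x • b = c} * Nat.card (A N a b) = Nat.card (N a) := by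
  classical
  let _ : Fintype (N a) := Fintype.ofFinite _
  have h1 := Nat.card_congr (MulAction.orbitProdStabilizerEquivGroup (N a) b)
  rw [Nat.card_prod] at h1
  rw [← h1]
  congr 1
  · refine Nat.card_congr (Equiv.subtypeEquivRight (fun c => ?_))
    constructor
    · rintro ⟨x, hx, rfl⟩
      exact ⟨⟨x, hx⟩, rfl⟩
    · rintro ⟨x, rfl⟩
      exact ⟨x.1, x.2, rfl⟩
  · refine Nat.card_congr ⟨fun x => ⟨⟨x.1, x.2.1⟩, x.2.2⟩, fun x => ⟨x.1.1, x.1.2, x.2⟩, fun x => rfl, fun x => rfl⟩

end Ab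

end Cfsg.Agent.H360.ON
end

-- part: H360/ON/Ab2
section
/-!
# Abelian families: lines have `q + 1` points
-/

set_option autoImplicit false

namespace Cfsg.Agent.H360.ON

open Subgroup MulAction

variable {G X : Type*} [Group G] [MulAction G X] {N : X → Subgroup G}

theorem card_orbit_eq [Finite G] (a b c d : X) (hN : Nat.card (N a) = Nat.card (N c))
    (hA : Nat.card (A N a b) = Nat.card (A N c d))
    (h1 : Nat.card {e : X // ∃ x ∈ N a, x • b = e} * Nat.card (A N a b) = Nat.card (N a))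
    (h2 : Nat.card {e : X // ∃ x ∈ N c, x • d = e} * Nat.card (A N c d) = Nat.card (N c)) :
    Nat.card {e : X // ∃ x ∈ N a, x • b = e} = Nat.card {e : X // ∃ x ∈ N c, x • d = e} := by
  rw [hN, ← h2, hA] at h1
  exact Nat.eq_of_mul_eq_mul_right Nat.card_pos h1

namespace Ab

variable (S : Ab N)
include S

/-- the size of the orbits of `N a` -/
theorem exists_q [Finite G] [Finite X] [FaithfulSMul G X] : ∃ q, 2 ≤ q ∧ ∀ a b : X, a ≠ b →
    Nat.card {c : X // ∃ x ∈ N a, x • b = c} = q ∧ Nat.card (N a) = q * Nat.card (A N a b) := by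
  obtain ⟨a, b, hab, -⟩ := S.nsr
  refine ⟨Nat.card {c : X // ∃ x ∈ N a, x • b = c}, ?_, ?_⟩
  · obtain ⟨v, hv, hvb⟩ := S.exists_moves hab
    have : Nontrivial {c : X // ∃ x ∈ N a, x • b = c} :=
      ⟨⟨⟨v • b, v, hv, rfl⟩, ⟨b, 1, one_mem _, one_smul _ _⟩, fun h => hvb (congrArg Subtype.val h)⟩⟩
    exact Finite.one_lt_card
  · intro c d hcd
    have h1 := card_orbit_eq c d a b (S.card_N c a) (S.card_A hcd hab) (S.card_orbit c d) (S.card_orbit a b)
    refine ⟨h1, ?_⟩
    rw [← h1]
    exact (S.card_orbit c d).symm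

/-- the subgroup `[N a, y]` -/
theorem exists_U [Finite G] [Finite X] [FaithfulSMul G X] {a b : X} (hab : a ≠ b) {x : G} (hx : x ∈ A N a b)
    (hx1 : x ≠ 1) : ∃ U : Subgroup G, U ≤ N a ∧ Nat.card U * Nat.card (A N a b) = Nat.card (N a) ∧
      ∀ u ∈ U, u ≠ 1 → Fx X u = Fx X x := by
  obtain ⟨v, hv, hvb⟩ := S.exists_moves hab
  obtain ⟨E, hE⟩ := S.exists_equiv hab hv hvb
  obtain ⟨y, hy⟩ := E.surjective ⟨x, hx⟩
  have hyx : v * y.1 * v⁻¹ * y.1⁻¹ = x := by rw [← hE, hy]
  have hy1 : y.1 ≠ 1 := by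
    intro h
    apply hx1
    rw [← hyx, h]; group
  have hFx : Fx X x = Fx X y.1 := by
    rw [← hyx]
    exact S.Fx_eq hab hv hvb y.2
  let φ : N a →* G := MonoidHom.mk' (fun w => w.1 * y.1 * w.1⁻¹ * y.1⁻¹)
    (fun w w' => S.br_mul_left w.2 w'.2 y.2)
  refine ⟨φ.range, ?_, ?_, ?_⟩
  · rintro _ ⟨w, rfl⟩
    exact (S.br_mem hab w.2 y.2).1
  · have h1 : Nat.card φ.range * Nat.card φ.ker = Nat.card (N a) := by
      rw [← Nat.card_congr (QuotientGroup.quotientKerEquivRange φ).toEquiv]
      exact (Subgroup.card_eq_card_quotient_mul_card_subgroup φ.ker).symm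
    rw [← h1]
    congr 1
    refine Nat.card_congr ⟨fun w => ⟨⟨w.1, w.2.1⟩, ?_⟩, fun w => ⟨w.1.1, w.1.2, ?_⟩, fun w => rfl, fun w => rfl⟩
    · rw [MonoidHom.mem_ker]
      exact S.br_eq_one hab w.2 y.2
    · by_contra hwb
      exact S.br_ne_one hwb y.2 hy1 (MonoidHom.mem_ker.1 w.2)
  · rintro _ ⟨w, rfl⟩ hw
    have hwb : w.1 • b ≠ b := by
      intro h
      exact hw (S.br_eq_one hab ⟨w.2, h⟩ y.2)
    rw [hFx]
    exact S.Fx_eq hab w.2 hwb y.2

/-- decomposition of `N a` -/
theorem decomp [Finite G] [Finite X] [FaithfulSMul G X] {a b d : X} (hab : a ≠ b) {x : G} (hx : x ∈ A N a b)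
    (hxd : x • d ≠ d) : ∃ U : Subgroup G, U ≤ N a ∧ (∀ u ∈ U, u ≠ 1 → Fx X u = Fx X x) ∧
      ∀ w ∈ N a, ∃ u ∈ U, ∃ z ∈ A N a d, w = u * z := by
  have hx1 : x ≠ 1 := by
    rintro rfl
    exact hxd (one_smul _ _)
  have had : a ≠ d := by
    rintro rfl
    exact hxd (S.fix a x hx.1)
  obtain ⟨U, hU, hc, hF⟩ := S.exists_U hab hx hx1
  refine ⟨U, hU, hF, ?_⟩
  have hdisj : ∀ u ∈ U, u ∈ A N a d → u = 1 := by
    intro u hu hud
    by_contra hu1
    have h1 : d ∈ Fx X u := hud.2
    rw [hF u hu hu1] at h1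
    exact hxd h1
  -- the product map is injective
  let f : U × A N a d → N a := fun p => ⟨p.1.1 * p.2.1, mul_mem (hU p.1.2) p.2.2.1⟩
  have hf : Function.Injective f := by
    rintro ⟨u, z⟩ ⟨u', z'⟩ h
    have h1 : u.1 * z.1 = u'.1 * z'.1 := congrArg Subtype.val h
    have h2 : u'.1⁻¹ * u.1 = z'.1 * z.1⁻¹ := by
      rw [inv_mul_eq_iff_eq_mul, ← mul_assoc, ← h1]; group
    have h3 : u'.1⁻¹ * u.1 = 1 := by
      apply hdisj _ (mul_mem (inv_mem u'.2) u.2)
      rw [h2]
      exact mul_mem z'.2 (inv_mem z.2)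
    have h4 : u = u' := Subtype.ext (inv_mul_eq_one.1 h3).symm
    subst h4
    have h5 : z = z' := Subtype.ext (mul_left_cancel h1)
    rw [h5]
  have hcard : Nat.card (U × A N a d) = Nat.card (N a) := by
    rw [Nat.card_prod, ← hc, S.card_A had hab]
  have hsurj := ((Nat.bijective_iff_injective_and_card f).2 ⟨hf, hcard⟩).2
  intro w hw
  obtain ⟨⟨u, z⟩, h⟩ := hsurj ⟨w, hw⟩
  exact ⟨u.1, u.2, z.1, z.2, (congrArg Subtype.val h).symm⟩

/-- `A a c` is transitive on the orbit of `d`, if `d` is not on the line `a c` -/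
theorem exists_same [Finite G] [Finite X] [FaithfulSMul G X] {a c d : X} (hac : a ≠ c) (hd : ¬ OnLine N a c d)
    {w : G} (hw : w ∈ N a) : ∃ y ∈ A N a c, y • d = w • d := by
  unfold OnLine at hd
  push Not at hd
  obtain ⟨x, hx, hxd⟩ := hd
  obtain ⟨U, hU, hF, hdec⟩ := S.decomp hac hx hxd
  obtain ⟨u, hu, z, hz, rfl⟩ := hdec w hw
  refine ⟨u, ⟨hU hu, ?_⟩, ?_⟩
  · by_cases hu1 : u = 1
    · rw [hu1]; exact one_smul _ _
    · have h1 : c ∈ Fx X x := hx.2
      rw [← hF u hu hu1] at h1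
      exact h1
  · rw [mul_smul, hz.2]

/-- the pointwise stabilizer of a line off `a` has index `q^2` -/
theorem card_inf [Finite G] [Finite X] [FaithfulSMul G X] {q : ℕ} {a c d : X} (hac : a ≠ c)
    (hd : ¬ OnLine N a c d) (hq : Nat.card {e : X // ∃ x ∈ N a, x • d = e} = q) :
    Nat.card (A N a c) = q * Nat.card ↥(A N a c ⊓ A N a d) := by
  classical
  have h1 := Nat.card_congr (MulAction.orbitProdStabilizerEquivGroup (A N a c) d)
  rw [Nat.card_prod] at h1
  rw [← h1, ← hq]
  congr 1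
  · refine Nat.card_congr (Equiv.subtypeEquivRight (fun e => ?_))
    constructor
    · rintro ⟨x, rfl⟩
      exact ⟨x.1, x.2.1, rfl⟩
    · rintro ⟨x, hx, rfl⟩
      obtain ⟨y, hy, hyd⟩ := S.exists_same hac hd hx
      exact ⟨⟨y, hy⟩, hyd⟩
  · refine Nat.card_congr ⟨fun x => ⟨x.1.1, x.1.2, x.1.2.1, x.2⟩, fun x => ⟨⟨x.1, x.2.1⟩, x.2.2.2⟩, fun x => rfl, fun x => rfl⟩

omit S in
theorem card_sdiff {H C : Subgroup G} [Finite G] (hle : C ≤ H) :
    Nat.card {x : G // x ∈ H ∧ x ∉ C} + Nat.card C = Nat.card H := by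
  classical
  have h1 : Nat.card {x : G // x ∈ H ∧ x ∉ C} = ((H : Set G) \ (C : Set G)).ncard := rfl
  have h2 : Nat.card C = (C : Set G).ncard := rfl
  have h3 : Nat.card H = (H : Set G).ncard := rfl
  rw [h1, h2, h3]
  exact Set.ncard_sdiff_add_ncard_of_subset hle (Set.toFinite _)

/-- counting on a line -/
theorem line_card_le [Finite G] [Finite X] [FaithfulSMul G X] {q : ℕ} (hq2 : 2 ≤ q)
    (hq : ∀ a b : X, a ≠ b →
      Nat.card {c : X // ∃ x ∈ N a, x • b = c} = q ∧ Nat.card (N a) = q * Nat.card (A N a b)) {a c d : X} (hcd : c ≠ d)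
    (ha : ¬ OnLine N c d a) : Nat.card {e : X // OnLine N c d e} ≤ q + 1 ∧
      (Nat.card {e : X // OnLine N c d e} = q + 1 → ∀ x ∈ N a, ∃ e, OnLine N c d e ∧ x • e = e) := by
  classical
  have hac : a ≠ c := by
    rintro rfl
    exact ha S.onLine_left
  have hd : ¬ OnLine N a c d := by
    intro h
    apply ha
    have h1 : OnLine N c a d := S.onLine_swap hac h
    rw [S.onLine_congr hac.symm hcd S.onLine_left h1]
    exact Sys.onLine_right
  have had : a ≠ d := by
    rintro rfl
    exact ha Sys.onLine_right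
  set C := A N a c ⊓ A N a d with hC
  have hk : Nat.card (A N a c) = q * Nat.card C := S.card_inf hac hd (hq a d had).1
  have hae : ∀ e, OnLine N c d e → a ≠ e := by
    rintro e he rfl
    exact ha he
  have hCe : ∀ e, OnLine N c d e → C ≤ A N a e := by
    intro e he x hx
    exact ⟨hx.1.1, S.fix_line hx.1.1 hcd ha hx.1.2 hx.2.2 he⟩
  have hCee : ∀ e e', OnLine N c d e → OnLine N c d e' → e ≠ e' → ∀ x ∈ A N a e, x ∈ A N a e' → x ∈ C := by
    intro e e' he he' hne x hx hx'
    have ha' : ¬ OnLine N e e' a := by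
      rw [S.onLine_congr hcd hne he he']
      exact ha
    refine ⟨⟨hx.1, S.fix_line hx.1 hne ha' hx.2 hx'.2 ?_⟩, ⟨hx.1, S.fix_line hx.1 hne ha' hx.2 hx'.2 ?_⟩⟩
    · rw [S.onLine_congr hcd hne he he']
      exact S.onLine_left
    · rw [S.onLine_congr hcd hne he he']
      exact Sys.onLine_right
  have hkpos : 0 < Nat.card C := Nat.card_pos
  set k := Nat.card C with hkdef
  let _ : Fintype {e : X // OnLine N c d e} := Fintype.ofFinite _
  let f : (Σ e : {e : X // OnLine N c d e}, {x : G // x ∈ A N a e.1 ∧ x ∉ C}) → {x : G // x ∈ N a ∧ x ∉ C} :=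
    fun p => ⟨p.2.1, p.2.2.1.1, p.2.2.2⟩
  have hf : Function.Injective f := by
    rintro ⟨e, x⟩ ⟨e', x'⟩ h
    have h1 : x.1 = x'.1 := congrArg Subtype.val h
    have h2 : e = e' := by
      by_contra hne
      apply x.2.2
      refine hCee e.1 e'.1 e.2 e'.2 (fun h => hne (Subtype.ext h)) x.1 x.2.1 ?_
      rw [h1]
      exact x'.2.1
    subst h2
    have h3 : x = x' := Subtype.ext h1
    rw [h3]
  have hcardL : Nat.card (Σ e : {e : X // OnLine N c d e}, {x : G // x ∈ A N a e.1 ∧ x ∉ C}) =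
      Nat.card {e : X // OnLine N c d e} * (q * k - k) := by
    rw [Nat.card_sigma]
    have h1 : ∀ e : {e : X // OnLine N c d e}, Nat.card {x : G // x ∈ A N a e.1 ∧ x ∉ C} = q * k - k := by
      intro e
      have h2 := card_sdiff (hCe e.1 e.2)
      rw [S.card_A (hae e.1 e.2) hac, hk] at h2
      omega
    rw [Finset.sum_congr rfl (fun e _ => h1 e), Finset.sum_const, smul_eq_mul, Finset.card_univ,
      ← Nat.card_eq_fintype_card]
  have hcardR : Nat.card {x : G // x ∈ N a ∧ x ∉ C} = (q + 1) * (q * k - k) := by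
    have h2 := card_sdiff (H := N a) (C := C) (fun x hx => hx.1.1)
    rw [(hq a c hac).2, hk, ← hkdef] at h2
    have h3 : (q + 1) * (q * k - k) + k = q * (q * k) := by
      obtain ⟨r, rfl⟩ : ∃ r, q = r + 1 := ⟨q - 1, by omega⟩
      have h4 : (r + 1) * k - k = r * k := by rw [Nat.add_mul, one_mul, Nat.add_sub_cancel]
      rw [h4]
      ring
    omega
  have hpos : 0 < q * k - k := by
    have : 2 * k ≤ q * k := Nat.mul_le_mul_right k hq2
    omega
  constructor
  · have h1 := Nat.card_le_card_of_injective f hf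
    rw [hcardL, hcardR] at h1
    exact Nat.le_of_mul_le_mul_right h1 hpos
  · intro hM x hx
    by_cases hxC : x ∈ C
    · exact ⟨c, S.onLine_left, hxC.1.2⟩
    · have hsurj := ((Nat.bijective_iff_injective_and_card f).2 ⟨hf, by rw [hcardL, hcardR, hM]⟩).2
      obtain ⟨⟨e, y⟩, hy⟩ := hsurj ⟨x, hx, hxC⟩
      have h1 : y.1 = x := congrArg Subtype.val hy
      exact ⟨e.1, e.2, h1 ▸ y.2.1.2⟩

/-- lines have `q + 1` points and `N c` is transitive on the other points of a line through `c` -/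
theorem line_trans [Finite G] [Finite X] [FaithfulSMul G X] {q : ℕ} (hq2 : 2 ≤ q)
    (hq : ∀ a b : X, a ≠ b →
      Nat.card {c : X // ∃ x ∈ N a, x • b = c} = q ∧ Nat.card (N a) = q * Nat.card (A N a b)) {c d : X} (hcd : c ≠ d) :
    Nat.card {e : X // OnLine N c d e} = q + 1 ∧ ∀ e, OnLine N c d e → e ≠ c → ∃ x ∈ N c, x • d = e := by
  classical
  obtain ⟨a, ha⟩ := S.exists_off hcd
  have hle := (S.line_card_le hq2 hq hcd ha).1
  -- the orbit of `d` and the point `c`
  let f : Option {e : X // ∃ x ∈ N c, x • d = e} → {e : X // OnLine N c d e} := fun o =>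
    match o with
    | none => ⟨c, S.onLine_left⟩
    | some e => ⟨e.1, by
        obtain ⟨x, hx, h⟩ := e.2
        rw [← h]
        exact S.pres hx Sys.onLine_right⟩
  have hne : ∀ e : {e : X // ∃ x ∈ N c, x • d = e}, e.1 ≠ c := by
    rintro ⟨e, x, hx, rfl⟩ h
    apply hcd
    have h1 : x • d = x • c := h.trans (S.fix c x hx).symm
    exact ((smul_left_cancel_iff x).1 h1).symm
  have hf : Function.Injective f := by
    rintro (_ | e) (_ | e') h
    · rfl
    · exact absurd (congrArg Subtype.val h).symm (hne e')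
    · exact absurd (congrArg Subtype.val h) (hne e)
    · have h2 : e.1 = e'.1 := congrArg (fun z : {e : X // OnLine N c d e} => z.1) h
      rw [Subtype.ext h2]
  let _ : Fintype {e : X // ∃ x ∈ N c, x • d = e} := Fintype.ofFinite _
  have hcard : Nat.card (Option {e : X // ∃ x ∈ N c, x • d = e}) = q + 1 := by
    rw [Nat.card_eq_fintype_card, Fintype.card_option, ← Nat.card_eq_fintype_card, (hq c d hcd).1]
  have h1 := Nat.card_le_card_of_injective f hf
  rw [hcard] at h1
  have hM : Nat.card {e : X // OnLine N c d e} = q + 1 := le_antisymm hle h1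
  refine ⟨hM, ?_⟩
  have hsurj := ((Nat.bijective_iff_injective_and_card f).2 ⟨hf, by rw [hcard, hM]⟩).2
  intro e he hec
  obtain ⟨o, ho⟩ := hsurj ⟨e, he⟩
  match o, ho with
  | none, ho => exact absurd (congrArg Subtype.val ho).symm hec
  | some e', ho =>
    obtain ⟨x, hx, h⟩ := e'.2
    exact ⟨x, hx, h.trans (congrArg Subtype.val ho)⟩

/-- each element of `N a` fixes a point of each line off `a` -/
theorem exists_fixed [Finite G] [Finite X] [FaithfulSMul G X] {a c d : X} (hcd : c ≠ d)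
    (ha : ¬ OnLine N c d a) {x : G} (hx : x ∈ N a) : ∃ e, OnLine N c d e ∧ x • e = e := by
  obtain ⟨q, hq2, hq⟩ := S.exists_q
  exact (S.line_card_le hq2 hq hcd ha).2 (S.line_trans hq2 hq hcd).1 x hx

theorem trans [Finite G] [Finite X] [FaithfulSMul G X] {c d e : X} (hcd : c ≠ d)
    (he : OnLine N c d e) (hec : e ≠ c) : ∃ x ∈ N c, x • d = e := by
  obtain ⟨q, hq2, hq⟩ := S.exists_q
  exact (S.line_trans hq2 hq hcd).2 e he hec

/-- lines have at least three points -/
theorem exists_third [Finite G] [Finite X] [FaithfulSMul G X] {c d : X} (hcd : c ≠ d) :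
    ∃ e, OnLine N c d e ∧ e ≠ c ∧ e ≠ d := by
  obtain ⟨v, hv, hvd⟩ := S.exists_moves hcd
  refine ⟨v • d, S.pres hv Sys.onLine_right, ?_, hvd⟩
  intro h
  apply hcd
  have h1 : v • d = v • c := h.trans (S.fix c v hv).symm
  exact ((smul_left_cancel_iff v).1 h1).symm

end Ab

end Cfsg.Agent.H360.ON
end

-- part: H360/ON/Frame
section
/-!
# Subspaces, frames and root groups
-/

set_option autoImplicit false

namespace Cfsg.Agent.H360.ON

open Subgroup MulAction

variable {G X : Type*} [Group G] [MulAction G X] {N : X → Subgroup G}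

/-- sets of points closed under lines -/
def IsSub (N : X → Subgroup G) (T : Set X) : Prop :=
  ∀ a ∈ T, ∀ b ∈ T, a ≠ b → ∀ c, OnLine N a b c → c ∈ T

/-- the subspace generated by a set -/
def sp (N : X → Subgroup G) (T : Set X) : Set X := ⋂₀ {U | IsSub N U ∧ T ⊆ U}

theorem subset_sp (T : Set X) : T ⊆ sp N T := by
  intro c hc U hU
  exact hU.2 hc

theorem isSub_sp (T : Set X) : IsSub N (sp N T) := by
  intro a ha b hb hab c hc U hU
  exact hU.1 a (ha U hU) b (hb U hU) hab c hc

theorem sp_le {T U : Set X} (hU : IsSub N U) (h : T ⊆ U) : sp N T ⊆ U := fun _ hc => hc U ⟨hU, h⟩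

theorem sp_mono {T U : Set X} (h : T ⊆ U) : sp N T ⊆ sp N U := sp_le (isSub_sp U) (h.trans (subset_sp U))

/-- the root subgroups of a family of points -/
def Xr {ι : Type*} (N : X → Subgroup G) (p : ι → X) (i j : ι) : Subgroup G where
  carrier := {x | x ∈ N (p i) ∧ ∀ k, k ≠ j → x • p k = p k}
  mul_mem' := by
    rintro x y ⟨hx, hx'⟩ ⟨hy, hy'⟩
    exact ⟨mul_mem hx hy, fun k hk => by rw [mul_smul, hy' k hk, hx' k hk]⟩
  one_mem' := ⟨one_mem _, fun k _ => one_smul _ _⟩
  inv_mem' := by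
    rintro x ⟨hx, hx'⟩
    exact ⟨inv_mem hx, fun k hk => by rw [inv_smul_eq_iff, hx' k hk]⟩

theorem mem_Xr {ι : Type*} {p : ι → X} {i j : ι} {x : G} :
    x ∈ Xr N p i j ↔ x ∈ N (p i) ∧ ∀ k, k ≠ j → x • p k = p k := Iff.rfl

/-- a frame -/
structure Frame {ι : Type*} (N : X → Subgroup G) (p : ι → X) : Prop where
  span : sp N (Set.range p) = Set.univ
  indep : ∀ j, p j ∉ sp N (p '' {k | k ≠ j})

namespace Ab

variable (S : Ab N)
include S

theorem isSub_Fx [Finite G] {a : X} {x : G} (hx : x ∈ N a) : IsSub N (Fx X x) := by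
  intro c hc d hd hcd e he
  rw [mem_Fx] at hc hd ⊢
  by_cases ha : OnLine N c d a
  · by_cases hca : c = a
    · subst hca
      exact he x ⟨hx, hd⟩
    · have h1 : OnLine N a c e := by
        rw [S.onLine_congr hcd (Ne.symm hca) ha S.onLine_left]
        exact he
      exact h1 x ⟨hx, hc⟩
  · exact S.fix_line hx hcd ha hc hd he

theorem sp_le_Fx [Finite G] {a : X} {x : G} (hx : x ∈ N a) {T : Set X} (hT : ∀ t ∈ T, x • t = t) :
    ∀ c ∈ sp N T, x • c = c := fun _ hc => sp_le (S.isSub_Fx hx) hT hc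

theorem onLine_singleton {a : X} (b : X) (hb : ∀ x ∈ N a, x • b = b) [FaithfulSMul G X] : b = a := by
  by_contra hne
  obtain ⟨v, hv, hvb⟩ := S.exists_moves (Ne.symm hne)
  exact hvb (hb v hv)

/-- the Galois correspondence: a point fixed by all elements of `N a` which fix `T` is in the span of `a` and `T` -/
theorem mem_sp [Finite G] [Finite X] [FaithfulSMul G X] {a : X} (T : Finset X) : ∀ c : X,
    (∀ x ∈ N a, (∀ t ∈ T, x • t = t) → x • c = c) → c ∈ sp N (insert a (T : Set X)) := by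
  classical
  induction T using Finset.induction_on with
  | empty =>
    intro c hc
    have h1 : c = a := S.onLine_singleton c (fun x hx => hc x hx (by simp))
    rw [h1]
    exact subset_sp _ (Set.mem_insert _ _)
  | insert δ T hδT ih =>
    intro ε hε
    by_contra hεS
    have ha' : a ∈ sp N (insert a ((insert δ T : Finset X) : Set X)) := subset_sp _ (Set.mem_insert _ _)
    have hδ' : δ ∈ sp N (insert a ((insert δ T : Finset X) : Set X)) := subset_sp _ (by simp)
    have hmono : sp N (insert a (T : Set X)) ⊆ sp N (insert a ((insert δ T : Finset X) : Set X)) := by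
      apply sp_mono
      apply Set.insert_subset_insert
      rw [Finset.coe_insert]
      exact Set.subset_insert _ _
    by_cases hδ : δ ∈ sp N (insert a (T : Set X))
    · apply hεS
      apply hmono
      apply ih
      intro x hx hxT
      apply hε x hx
      intro t ht
      rcases Finset.mem_insert.1 ht with rfl | ht
      · apply S.sp_le_Fx hx (T := insert a (T : Set X)) _ _ hδ
        rintro s (rfl | hs)
        · exact S.fix _ x hx
        · exact hxT s hs
      · exact hxT t ht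
    · have hex : ∃ x ∈ N a, (∀ t ∈ T, x • t = t) ∧ x • δ ≠ δ := by
        by_contra hno
        push Not at hno
        exact hδ (ih δ hno)
      obtain ⟨x, hx, hxT, hxδ⟩ := hex
      have hδε : δ ≠ ε := by
        rintro rfl
        exact hεS hδ'
      have haδ : δ ≠ a := by
        rintro rfl
        exact hδ (subset_sp _ (Set.mem_insert _ _))
      have hoff : ¬ OnLine N δ ε a := by
        intro h
        apply hεS
        refine isSub_sp _ δ hδ' a ha' haδ ε ?_
        rw [S.onLine_congr hδε haδ S.onLine_left h]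
        exact Sys.onLine_right
      obtain ⟨γ, hγ, hxγ⟩ := S.exists_fixed hδε hoff hx
      have hγa : a ≠ γ := by
        rintro rfl
        exact hoff hγ
      have hγδ : δ ≠ γ := by
        rintro rfl
        exact hxδ hxγ
      obtain ⟨U, hU, hF, hdec⟩ := S.decomp hγa ⟨hx, hxγ⟩ hxδ
      have hγS : γ ∈ sp N (insert a (T : Set X)) := by
        apply ih
        intro w hw hwT
        obtain ⟨u, hu, z, hz, rfl⟩ := hdec w hw
        have huT : ∀ t : X, x • t = t → u • t = t := by
          intro t ht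
          by_cases hu1 : u = 1
          · rw [hu1, one_smul]
          · have h1 : t ∈ Fx X x := ht
            rw [← hF u hu hu1] at h1
            exact h1
        have hzT : ∀ t ∈ T, z • t = t := by
          intro t ht
          have h1 := hwT t ht
          have h2 := huT t (hxT t ht)
          rw [mul_smul] at h1
          have h3 : u • z • t = u • t := h1.trans h2.symm
          exact (smul_left_cancel_iff u).1 h3
        have hzε : z • ε = ε := by
          apply hε z hz.1
          intro t ht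
          rcases Finset.mem_insert.1 ht with rfl | ht
          · exact hz.2
          · exact hzT t ht
        have hzγ : z • γ = γ := S.fix_line hz.1 hδε hoff hz.2 hzε hγ
        rw [mul_smul, hzγ, huT γ hxγ]
      apply hεS
      refine isSub_sp _ δ hδ' γ (hmono hγS) hγδ ε ?_
      rw [S.onLine_congr hδε hγδ S.onLine_left hγ]
      exact Sys.onLine_right

/-- existence of frames -/
theorem exists_frame [Finite G] [Finite X] [FaithfulSMul G X] : ∃ (n : ℕ) (p : Fin n → X), 3 ≤ n ∧ Frame N p := by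
  classical
  let _ : Fintype X := Fintype.ofFinite X
  have hex : ∃ m, ∃ T : Finset X, T.card = m ∧ sp N (T : Set X) = Set.univ :=
    ⟨_, Finset.univ, rfl, Set.eq_univ_of_univ_subset (by
      have := subset_sp (N := N) ((Finset.univ : Finset X) : Set X)
      simpa using this)⟩
  obtain ⟨T, hT, hsp⟩ := Nat.find_spec hex
  have hmin : ∀ T' : Finset X, sp N (T' : Set X) = Set.univ → T.card ≤ T'.card := by
    intro T' h'
    rw [hT]
    exact Nat.find_min' hex ⟨T', rfl, h'⟩
  let e : Fin T.card ≃ T := (T.equivFin).symm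
  let p : Fin T.card → X := fun i => (e i).1
  have hpinj : Function.Injective p := fun i j h => e.injective (Subtype.ext h)
  have hrange : Set.range p = (T : Set X) := by
    ext c
    constructor
    · rintro ⟨i, rfl⟩
      exact (e i).2
    · intro hc
      exact ⟨e.symm ⟨c, hc⟩, by simp [p]⟩
  refine ⟨T.card, p, ?_, ⟨by rw [hrange]; exact hsp, ?_⟩⟩
  · -- at least three points
    by_contra hlt
    obtain ⟨a, b, hab, -⟩ := S.nsr
    -- every set of at most two points is in a line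
    have h1 : ∃ c d : X, c ≠ d ∧ (T : Set X) ⊆ {c, d} := by
      have h2 : T.card ≤ 2 := by omega
      have hother : ∀ c : X, ∃ d, c ≠ d := by
        intro c
        by_cases hc : c = a
        · exact ⟨b, by rw [hc]; exact hab⟩
        · exact ⟨a, hc⟩
      rcases Nat.lt_or_ge T.card 2 with h3 | h3
      · rcases T.eq_empty_or_nonempty with h4 | ⟨c, hc⟩
        · exact ⟨a, b, hab, by rw [h4]; simp⟩
        · obtain ⟨d, hd⟩ := hother c
          refine ⟨c, d, hd, ?_⟩
          intro x hx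
          left
          exact Finset.card_le_one.1 (by omega) x hx c hc
      · obtain ⟨c, d, hcd, hTcd⟩ := Finset.card_eq_two.1 (le_antisymm h2 h3)
        refine ⟨c, d, hcd, ?_⟩
        rw [hTcd]
        simp
    obtain ⟨c, d, hcd, hsub⟩ := h1
    obtain ⟨e, he⟩ := S.exists_off hcd
    apply he
    have hline : IsSub N {x | OnLine N c d x} := by
      intro x hx y hy hxy z hz
      exact (S.onLine_congr hcd hxy hx hy).1 hz
    have h5 : sp N (T : Set X) ⊆ {x | OnLine N c d x} := by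
      apply sp_le hline
      intro x hx
      rcases hsub hx with rfl | rfl
      · exact S.onLine_left
      · exact Sys.onLine_right
    rw [hsp] at h5
    exact h5 (Set.mem_univ e)
  · intro j hj
    -- `T` without `p j` still generates
    have hsub : sp N ((T.erase (p j) : Finset X) : Set X) = Set.univ := by
      apply Set.eq_univ_of_univ_subset
      rw [← hsp]
      apply sp_le (isSub_sp _)
      intro c hc
      by_cases hcj : c = p j
      · rw [hcj]
        apply sp_mono _ hj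
        rintro _ ⟨k, hk, rfl⟩
        simp only [Finset.coe_erase, Set.mem_diff, Set.mem_singleton_iff]
        exact ⟨(e k).2, fun h => hk (hpinj h)⟩
      · apply subset_sp
        simp only [Finset.coe_erase, Set.mem_diff, Set.mem_singleton_iff]
        exact ⟨hc, hcj⟩
    have h1 := hmin _ hsub
    have h2 := Finset.card_erase_lt_of_mem (e j).2
    exact absurd h1 (not_le.2 h2)

section frame

variable {ι : Type*} {p : ι → X} (P : Frame N p)
include P

omit S in
theorem Frame.inj : Function.Injective p := by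
  intro i j h
  by_contra hij
  apply P.indep j
  apply subset_sp
  exact ⟨i, hij, h⟩

theorem eq_one_of_fix [Finite G] [FaithfulSMul G X] {a : X} {x : G} (hx : x ∈ N a) (h : ∀ k, x • p k = p k) : x = 1 := by
  apply FaithfulSMul.eq_of_smul_eq_smul (α := X)
  intro c
  rw [one_smul]
  apply S.sp_le_Fx hx (T := Set.range p)
  · rintro _ ⟨k, rfl⟩
    exact h k
  · rw [P.span]
    exact Set.mem_univ c

theorem exists_root [Finite G] [Finite X] [FaithfulSMul G X] [Finite ι] {i j : ι} (hij : i ≠ j) :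
    ∃ x ∈ Xr N p i j, x ≠ 1 := by
  classical
  let _ : Fintype ι := Fintype.ofFinite ι
  by_contra hno
  push Not at hno
  apply P.indep j
  have h1 := S.mem_sp (a := p i) ((Finset.univ.filter (fun k => k ≠ j)).image p) (p j) (by
    intro x hx hxT
    have h2 : x = 1 := by
      apply hno
      refine ⟨hx, fun k hk => hxT _ ?_⟩
      exact Finset.mem_image.2 ⟨k, by simp [hk], rfl⟩
    rw [h2, one_smul])
  apply sp_mono _ h1
  rintro c (rfl | hc)
  · exact ⟨i, hij, rfl⟩
  · obtain ⟨k, hk, rfl⟩ := Finset.mem_image.1 (Finset.mem_coe.1 hc)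
    exact ⟨k, by simpa using hk, rfl⟩

/-- the root groups are transitive on lines -/
theorem root_trans [Finite G] [Finite X] [FaithfulSMul G X] [Finite ι] {i j k : ι} (hij : i ≠ j) (hik : i ≠ k)
    (hjk : j ≠ k) {w : G} (hw : w ∈ N (p i)) : ∃ x ∈ Xr N p i j, x • p j = w • p j := by
  obtain ⟨x, hx, hx1⟩ := S.exists_root P hij
  have hxj : x • p j ≠ p j := by
    intro h
    apply hx1
    apply S.eq_one_of_fix P hx.1
    intro m
    by_cases hm : m = j
    · rw [hm]; exact h
    · exact hx.2 m hm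
  have hinj := Frame.inj P
  obtain ⟨U, hU, hF, hdec⟩ := S.decomp (a := p i) (b := p k) (fun h => hik (hinj h)) ⟨hx.1, hx.2 k hjk.symm⟩ hxj
  obtain ⟨u, hu, z, hz, rfl⟩ := hdec w hw
  refine ⟨u, ⟨hU hu, ?_⟩, ?_⟩
  · intro m hm
    by_cases hu1 : u = 1
    · rw [hu1, one_smul]
    · have h1 : p m ∈ Fx X x := hx.2 m hm
      rw [← hF u hu hu1] at h1
      exact h1
  · rw [mul_smul, hz.2]

end frame

end Ab

end Cfsg.Agent.H360.ON
end

-- part: H360/ON/Psl
section
/-!
# The group generated by an abelian family is `PSL_n(F)`, `n ≥ 3`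
-/

set_option autoImplicit false

namespace Cfsg.Agent.H360.ON

open Subgroup MulAction
open Cfsg.Agent.AGraded Cfsg.Agent.TitsThree
open scoped commutatorElement

variable {G X : Type*} [Group G] [MulAction G X] {N : X → Subgroup G}

namespace Ab

variable (S : Ab N)
include S

/-- the subgroup generated by the `N a` is normal -/
theorem closure_normal : (⨆ a, N a).Normal := by
  constructor
  intro x hx g
  have h1 : ∀ a, N a ≤ (⨆ a, N a).comap (MulAut.conj g).toMonoidHom := by
    intro a y hy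
    exact (le_iSup N (g • a)) (S.conj g a y hy)
  exact (iSup_le h1) hx

/-- double transitivity of the subgroup generated by the `N a` -/
theorem fix_trans [Finite G] [Finite X] [FaithfulSMul G X] {a b c : X} (hab : a ≠ b) (hac : a ≠ c) :
    ∃ g ∈ (⨆ a, N a : Subgroup G), g • a = a ∧ g • b = c := by
  have hle : ∀ a, N a ≤ (⨆ a, N a : Subgroup G) := le_iSup N
  by_cases hbc : b = c
  · exact ⟨1, one_mem _, one_smul _ _, by rw [one_smul, hbc]⟩
  by_cases hl : OnLine N a b c
  · obtain ⟨x, hx, hxb⟩ := S.trans hab hl hac.symm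
    exact ⟨x, hle a hx, S.fix a x hx, hxb⟩
  · obtain ⟨e, he, heb, hec⟩ := S.exists_third hbc
    have hea : e ≠ a := by
      rintro rfl
      apply hl
      rw [S.onLine_congr hbc hab he S.onLine_left]
      exact Sys.onLine_right
    have hnl : ¬ OnLine N e a b := by
      intro h
      apply hl
      have h1 : OnLine N b c a := by
        rw [← S.onLine_congr hbc heb he S.onLine_left, S.onLine_congr hea heb S.onLine_left h]
        exact Sys.onLine_right
      rw [S.onLine_congr hbc hab h1 S.onLine_left]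
      exact Sys.onLine_right
    have hc : OnLine N e b c := by
      rw [S.onLine_congr hbc heb he S.onLine_left]
      exact Sys.onLine_right
    obtain ⟨w, hw, hwb⟩ := S.trans heb hc (Ne.symm hec)
    obtain ⟨y, hy, hyb⟩ := S.exists_same hea hnl hw
    exact ⟨y, hle e hy.1, hy.2, by rw [hyb, hwb]⟩

theorem two_trans [Finite G] [Finite X] [FaithfulSMul G X] {a b c d : X} (hab : a ≠ b) (hcd : c ≠ d) :
    ∃ g ∈ (⨆ a, N a : Subgroup G), g • a = c ∧ g • b = d := by
  have hle : ∀ a, N a ≤ (⨆ a, N a : Subgroup G) := le_iSup N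
  have h1 : ∃ g ∈ (⨆ a, N a : Subgroup G), g • a = c := by
    by_cases hac : a = c
    · exact ⟨1, one_mem _, by rw [one_smul, hac]⟩
    · obtain ⟨e, he, hea, hec⟩ := S.exists_third hac
      obtain ⟨w, hw, hwa⟩ := S.trans hea (by
        rw [S.onLine_congr hac hea he S.onLine_left]
        exact Sys.onLine_right) (Ne.symm hec)
      exact ⟨w, hle e hw, hwa⟩
  obtain ⟨g, hg, hga⟩ := h1
  have h2 : c ≠ g • b := by
    rw [← hga]
    intro h
    exact hab ((smul_left_cancel_iff g).1 h)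
  obtain ⟨k, hk, hkc, hkb⟩ := S.fix_trans h2 hcd
  exact ⟨k * g, mul_mem hk hg, by rw [mul_smul, hga, hkc], by rw [mul_smul, hkb]⟩

/-- restriction to the generated subgroup -/
theorem restrict [Finite G] [Finite X] [FaithfulSMul G X] :
    Ab (G := ↥(⨆ a, N a : Subgroup G)) (X := X) (fun a => (N a).subgroupOf (⨆ a, N a)) := by
  refine ⟨⟨⟨?_, ?_, ?_, ?_⟩, ?_⟩, ?_⟩
  · intro a b c d hab hcd
    obtain ⟨g, hg, h1, h2⟩ := S.two_trans hab hcd
    exact ⟨⟨g, hg⟩, h1, h2⟩
  · intro a x hx
    exact S.fix a x.1 hx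
  · intro g a x hx
    exact S.conj g.1 a x.1 hx
  · obtain ⟨a, b, hab, x, hx, hx1, hxb⟩ := S.nsr
    exact ⟨a, b, hab, ⟨x, le_iSup N a hx⟩, hx, fun h => hx1 (congrArg Subtype.val h), hxb⟩
  · intro a b hab x hx hx'
    exact Subtype.ext (S.ti a b hab x.1 hx hx')
  · intro a x hx y hy
    exact Subtype.ext (S.comm a x.1 hx y.1 hy)

theorem restrict_gen : (⨆ a, (N a).subgroupOf (⨆ a, N a : Subgroup G)) = ⊤ := by
  rw [eq_top_iff]
  rintro ⟨x, hx⟩ -
  have h1 : (⨆ a, N a : Subgroup G) ≤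
      (⨆ a, (N a).subgroupOf (⨆ a, N a : Subgroup G)).map (Subgroup.subtype _) := by
    apply iSup_le
    intro a y hy
    exact ⟨⟨y, le_iSup N a hy⟩, (le_iSup (fun a => (N a).subgroupOf (⨆ a, N a : Subgroup G)) a) hy, rfl⟩
  obtain ⟨y, hy, hyx⟩ := h1 hx
  have : y = ⟨x, hx⟩ := Subtype.ext hyx
  rw [← this]
  exact hy

/-- an element centralizing the generated subgroup is trivial -/
theorem centralizer_eq_bot [Finite G] [Finite X] [FaithfulSMul G X] :
    centralizer ((⨆ a, N a : Subgroup G) : Set G) = ⊥ := by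
  rw [eq_bot_iff]
  intro z hz
  rw [mem_bot]
  apply FaithfulSMul.eq_of_smul_eq_smul (α := X)
  intro a
  rw [one_smul]
  have hex : ∃ b, a ≠ b := by
    obtain ⟨c, d, hcd, -⟩ := S.nsr
    by_cases h : a = c
    · exact ⟨d, by rw [h]; exact hcd⟩
    · exact ⟨c, h⟩
  obtain ⟨b, hab⟩ := hex
  obtain ⟨x, hx, hx1⟩ := S.exists_ne_one hab
  apply S.cent hx.1 hx1
  exact (mem_centralizer_iff.1 hz x (le_iSup N a hx.1)).symm

section frame

variable {ι : Type*} {p : ι → X} (P : Frame N p)
include P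

theorem graded [Finite G] [Finite X] [FaithfulSMul G X] [Finite ι] : Graded (Xr N p) := by
  have hinj := Frame.inj P
  constructor
  · intro i j k l hij hkl hjk hil a ha b hb
    by_cases hik : i = k
    · subst hik
      exact S.comm _ a ha.1 b hb.1
    · exact S.comm_AB (fun h => hik (hinj h)) ⟨ha.1, ha.2 k (Ne.symm hjk)⟩ ⟨hb.1, hb.2 i hil⟩
  · intro i j k hij hjk hik a ha b hb
    rw [commutatorElement_def]
    have h1 := S.br_mem (a := p i) (b := p j) (fun h => hij (hinj h)) ha.1 ⟨hb.1, hb.2 i hik⟩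
    refine ⟨h1.1, fun m hm => ?_⟩
    by_cases hmj : m = j
    · rw [hmj]; exact h1.2
    · have ha' : a • p m = p m := ha.2 m hmj
      have hb' : b • p m = p m := hb.2 m hm
      have ha'' : a⁻¹ • p m = p m := by rw [inv_smul_eq_iff, ha']
      have hb'' : b⁻¹ • p m = p m := by rw [inv_smul_eq_iff, hb']
      rw [mul_smul, hb'', mul_smul, ha'', mul_smul, hb', ha']
  · intro i j k hij hjk hik a ha b hb ha1 hb1
    rw [commutatorElement_def]
    refine S.br_ne_one (a := p i) (b := p j) ?_ ⟨hb.1, hb.2 i hik⟩ hb1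
    intro h
    apply ha1
    apply S.eq_one_of_fix P ha.1
    intro m
    by_cases hm : m = j
    · rw [hm]; exact h
    · exact ha.2 m hm
  · intro i j hij
    exact S.exists_root P hij

/-- an element permuting the frame permutes the root groups -/
theorem conj_root {n : G} {σ : Equiv.Perm ι} (hn : ∀ k, n • p k = p (σ k)) {k l : ι} {c : G} (hc : c ∈ Xr N p k l) :
    n * c * n⁻¹ ∈ Xr N p (σ k) (σ l) := by
  constructor
  · rw [← hn]
    exact S.conj n _ c hc.1
  · intro m hm
    have h1 : n⁻¹ • p m = p (σ.symm m) := by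
      rw [inv_smul_eq_iff, hn, Equiv.apply_symm_apply]
    rw [mul_smul, mul_smul, h1, hc.2, hn, Equiv.apply_symm_apply]
    intro h
    apply hm
    rw [← h, Equiv.apply_symm_apply]

theorem rgd [Finite G] [Finite X] [FaithfulSMul G X] [Finite ι] (h3 : ∀ i j : ι, ∃ k, i ≠ k ∧ j ≠ k) :
    A2Refl.Rgd (Xr N p) := by
  classical
  have hinj := Frame.inj P
  intro i j hij a ha ha1
  have hpij : p i ≠ p j := fun h => hij (hinj h)
  have haj : a • p j ≠ p j := by
    intro h
    apply ha1
    apply S.eq_one_of_fix P ha.1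
    intro m
    by_cases hm : m = j
    · rw [hm]; exact h
    · exact ha.2 m hm
  obtain ⟨k, hik, hjk⟩ := h3 i j
  have hai : a • p i = p i := S.fix _ a ha.1
  -- `y` with `y • a • p j = p i`
  have key : ∀ e, OnLine N (p i) (p j) e → e ≠ p j → ∃ y ∈ Xr N p j i, y • p i = e := by
    intro e he hej
    obtain ⟨w, hw, hwe⟩ := S.trans hpij.symm (S.onLine_swap hpij he) hej
    obtain ⟨y, hy, hyi⟩ := S.root_trans P (i := j) (j := i) (k := k) hij.symm hjk hik hw
    exact ⟨y, hy, by rw [hyi, hwe]⟩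
  obtain ⟨z, hz, hze⟩ := key (a • p j) (S.pres ha.1 Sys.onLine_right) haj
  obtain ⟨y', hy', hye'⟩ := key (a⁻¹ • p j) (S.pres (inv_mem ha.1) Sys.onLine_right) (by
    intro h
    rw [inv_smul_eq_iff] at h
    exact haj h.symm)
  have hy : z⁻¹ ∈ Xr N p j i := inv_mem hz
  refine ⟨z⁻¹, hy, y', hy', ?_⟩
  have hn : ∀ m, (z⁻¹ * a * y') • p m = p (Equiv.swap i j m) := by
    intro m
    by_cases hmi : m = i
    · subst hmi
      rw [Equiv.swap_apply_left, mul_smul, hye', mul_smul, smul_inv_smul]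
      exact S.fix _ _ hy.1
    · by_cases hmj : m = j
      · subst hmj
        rw [Equiv.swap_apply_right, mul_smul, S.fix _ y' hy'.1, mul_smul, ← hze, inv_smul_smul]
      · rw [Equiv.swap_apply_of_ne_of_ne hmi hmj, mul_smul, hy'.2 m hmi, mul_smul, ha.2 m hmj, hy.2 m hmi]
  have hc : ∀ k l, ∀ c ∈ Xr N p k l, (z⁻¹ * a * y') * c * (z⁻¹ * a * y')⁻¹ ∈
      Xr N p (Equiv.swap i j k) (Equiv.swap i j l) := fun k l c hc => S.conj_root P hn hc
  refine ⟨?_, ?_, ?_, ?_, ?_, ?_⟩
  · intro c hc'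
    have := hc i j c hc'
    rwa [Equiv.swap_apply_left, Equiv.swap_apply_right] at this
  · intro c hc'
    have := hc j i c hc'
    rwa [Equiv.swap_apply_left, Equiv.swap_apply_right] at this
  · intro k hki hkj c hc'
    have := hc i k c hc'
    rwa [Equiv.swap_apply_left, Equiv.swap_apply_of_ne_of_ne hki hkj] at this
  · intro k hki hkj c hc'
    have := hc j k c hc'
    rwa [Equiv.swap_apply_right, Equiv.swap_apply_of_ne_of_ne hki hkj] at this
  · intro k hki hkj c hc'
    have := hc k i c hc'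
    rwa [Equiv.swap_apply_left, Equiv.swap_apply_of_ne_of_ne hki hkj] at this
  · intro k hki hkj c hc'
    have := hc k j c hc'
    rwa [Equiv.swap_apply_right, Equiv.swap_apply_of_ne_of_ne hki hkj] at this

/-- the root groups generate -/
theorem gen [Finite G] [Finite X] [FaithfulSMul G X] [Finite ι] (h3 : ∀ i j : ι, ∃ k, i ≠ k ∧ j ≠ k)
    {K : Subgroup G} (hK : ∀ i j, i ≠ j → Xr N p i j ≤ K) : ∀ a, N a ≤ K := by
  classical
  let _ : Fintype ι := Fintype.ofFinite ι
  have hinj := Frame.inj P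
  -- `N (p i) ≤ K`
  have h1 : ∀ i, N (p i) ≤ K := by
    intro i w hw
    have h2 : ∀ s : Finset ι, i ∉ s → ∃ x ∈ K, x ∈ N (p i) ∧ (∀ j ∈ s, x • p j = w • p j) ∧
        ∀ j, j ∉ s → x • p j = p j := by
      intro s
      induction s using Finset.induction_on with
      | empty => exact fun _ => ⟨1, one_mem _, one_mem _, by simp, fun j _ => one_smul _ _⟩
      | insert j s hj ih =>
        intro his
        obtain ⟨x, hxK, hxN, hxs, hxs'⟩ := ih (fun h => his (Finset.mem_insert_of_mem h))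
        have hij : i ≠ j := by
          rintro rfl
          exact his (Finset.mem_insert_self _ _)
        obtain ⟨k, hik, hjk⟩ := h3 i j
        obtain ⟨y, hy, hyj⟩ := S.root_trans P hij hik hjk hw
        refine ⟨y * x, mul_mem (hK i j hij hy) hxK, mul_mem hy.1 hxN, ?_, ?_⟩
        · intro m hm
          rcases Finset.mem_insert.1 hm with rfl | hm'
          · rw [mul_smul, hxs' m hj, hyj]
          · have hmj : m ≠ j := fun h => hj (h ▸ hm')
            rw [S.comm _ y hy.1 x hxN, mul_smul, hy.2 m hmj, hxs m hm']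
        · intro m hm
          rw [mul_smul, hxs' m (fun h => hm (Finset.mem_insert_of_mem h)), hy.2 m (by
            rintro rfl
            exact hm (Finset.mem_insert_self _ _))]
    obtain ⟨x, hxK, hxN, hxs, -⟩ := h2 (Finset.univ.erase i) (by simp)
    have h3 : x⁻¹ * w = 1 := by
      apply S.eq_one_of_fix P (mul_mem (inv_mem hxN) hw)
      intro m
      by_cases hm : m = i
      · rw [hm]
        exact S.fix _ _ (mul_mem (inv_mem hxN) hw)
      · rw [mul_smul, ← hxs m (by simp [hm]), inv_smul_smul]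
    rw [inv_mul_eq_one] at h3
    rw [← h3]
    exact hxK
  -- the set of points `a` with `N a ≤ K` is a subspace
  have h2 : IsSub N {a | N a ≤ K} := by
    intro a ha b hb hab c hc
    by_cases hca : c = a
    · rw [hca]; exact ha
    · obtain ⟨x, hx, hxb⟩ := S.trans hab hc hca
      intro y hy
      have h3 : x⁻¹ * y * x ∈ N b := by
        have h4 := S.conj x⁻¹ c y hy
        rw [← hxb, inv_smul_smul, inv_inv] at h4
        exact h4
      have h5 : y = x * (x⁻¹ * y * x) * x⁻¹ := by group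
      rw [h5]
      exact mul_mem (mul_mem (ha hx) (hb h3)) (inv_mem (ha hx))
  have h4 : sp N (Set.range p) ⊆ {a | N a ≤ K} := by
    apply sp_le h2
    rintro _ ⟨i, rfl⟩
    exact h1 i
  rw [P.span] at h4
  exact fun a => h4 (Set.mem_univ a)

/-- the order of the root groups -/
theorem card_root [Finite G] [Finite X] [FaithfulSMul G X] [Finite ι] (h3 : ∀ i j : ι, ∃ k, i ≠ k ∧ j ≠ k)
    {q : ℕ} (hq : ∀ a b : X, a ≠ b →
      Nat.card {c : X // ∃ x ∈ N a, x • b = c} = q ∧ Nat.card (N a) = q * Nat.card (A N a b)) {i j : ι} (hij : i ≠ j) :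
    Nat.card (Xr N p i j) = q := by
  have hinj := Frame.inj P
  rw [← (hq (p i) (p j) (fun h => hij (hinj h))).1]
  obtain ⟨k, hik, hjk⟩ := h3 i j
  refine Nat.card_congr (Equiv.ofBijective (fun x => ⟨x.1 • p j, x.1, x.2.1, rfl⟩) ⟨?_, ?_⟩)
  · intro x y h
    have h1 : x.1 • p j = y.1 • p j := congrArg Subtype.val h
    have h2 : y.1⁻¹ * x.1 = 1 := by
      apply S.eq_one_of_fix P (mul_mem (inv_mem y.2.1) x.2.1)
      intro m
      by_cases hm : m = j
      · rw [hm, mul_smul, h1, inv_smul_smul]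
      · rw [mul_smul, x.2.2 m hm, inv_smul_eq_iff, y.2.2 m hm]
    exact Subtype.ext (inv_mul_eq_one.1 h2).symm
  · rintro ⟨e, w, hw, rfl⟩
    obtain ⟨x, hx, hxj⟩ := S.root_trans P hij hik hjk hw
    exact ⟨⟨x, hx⟩, Subtype.ext hxj⟩

/-- the root groups are in the commutator subgroup -/
theorem root_le_commutator [Finite G] [Finite X] [FaithfulSMul G X] [Finite ι]
    (h3 : ∀ i j : ι, ∃ k, i ≠ k ∧ j ≠ k) {i j : ι} (hij : i ≠ j) : Xr N p i j ≤ commutator G := by
  have hg := S.graded P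
  obtain ⟨q, hq2, hq⟩ := S.exists_q
  obtain ⟨k, hik, hjk⟩ := h3 i j
  obtain ⟨b, hb, hb1⟩ := hg.ne_bot k j hjk.symm
  -- `a ↦ ⁅a, b⁆` is injective from `X i k` to `X i j`
  let f : Xr N p i k → Xr N p i j := fun a => ⟨⁅a.1, b⁆, hg.br_mem i k j hik hjk.symm hij a.1 a.2 b hb⟩
  have hf : Function.Injective f := by
    intro a a' h
    have h1 : ⁅a.1, b⁆ = ⁅a'.1, b⁆ := congrArg Subtype.val h
    by_contra hne
    have hz : a.1⁻¹ * a'.1 ∈ Xr N p i k := mul_mem (inv_mem a.2) a'.2
    have hz1 : a.1⁻¹ * a'.1 ≠ 1 := fun h2 => hne (Subtype.ext (inv_mul_eq_one.1 h2))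
    apply hg.br_ne i k j hik hjk.symm hij _ hz b hb hz1 hb1
    have h2 := hg.br_mul_left hik hjk.symm hij a.2 hz hb
    have h4 : a.1 * (a.1⁻¹ * a'.1) = a'.1 := by group
    rw [h4, ← h1] at h2
    exact mul_eq_left.1 h2.symm
  have hcard : Nat.card (Xr N p i k) = Nat.card (Xr N p i j) := by
    rw [S.card_root P h3 hq hik, S.card_root P h3 hq hij]
  have hsurj := ((Nat.bijective_iff_injective_and_card f).2 ⟨hf, hcard⟩).2
  intro x hx
  obtain ⟨a, ha⟩ := hsurj ⟨x, hx⟩
  have h1 : ⁅a.1, b⁆ = x := congrArg Subtype.val ha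
  rw [← h1]
  exact commutator_mem_commutator (mem_top _) (mem_top _)

end frame

/-- the generated group is simple -/
theorem simple [Finite G] [Finite X] [FaithfulSMul G X] (hgen : (⨆ a, N a) = ⊤) : IsSimpleGroup G := by
  classical
  obtain ⟨n, p, hn, P⟩ := S.exists_frame
  have h3 : ∀ i j : Fin n, ∃ k, i ≠ k ∧ j ≠ k := by
    intro i j
    have h4 : (({i, j} : Finset (Fin n))ᶜ).Nonempty := by
      rw [← Finset.card_pos, Finset.card_compl, Fintype.card_fin]
      have := Finset.card_le_two (a := i) (b := j)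
      omega
    obtain ⟨k, hk⟩ := h4
    simp only [Finset.mem_compl, Finset.mem_insert, Finset.mem_singleton, not_or] at hk
    exact ⟨k, fun h => hk.1 h.symm, fun h => hk.2 h.symm⟩
  have hperf : commutator G = ⊤ := by
    rw [eq_top_iff, ← hgen]
    exact iSup_le (S.gen P h3 (fun i j hij => S.root_le_commutator P h3 hij))
  obtain ⟨a, b, hab, x, hx, hx1, -⟩ := S.nsr
  have hnt : Nontrivial G := ⟨⟨x, 1, hx1⟩⟩
  have hntX : Nontrivial X := ⟨⟨a, b, hab⟩⟩
  have h2 : IsMultiplyPretransitive G X 2 := by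
    rw [is_two_pretransitive_iff]
    intro a b c d hab hcd
    exact S.two a b c d hab hcd
  have hprim : IsPreprimitive G X := isPreprimitive_of_is_two_pretransitive h2
  exact IwasawaStructure.isSimpleGroup (α := X) hperf
    { T := N
      is_comm := fun a => ⟨⟨fun x y => Subtype.ext (S.comm a x.1 x.2 y.1 y.2)⟩⟩
      is_conj := fun g a => (S.map_N g a).symm
      is_generator := hgen } inferInstance

/-- **Recognition.** -/
theorem psl [Finite G] [Finite X] [FaithfulSMul G X] (hgen : (⨆ a, N a) = ⊤) :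
    ∃ (F : Type) (_ : Field F) (_ : Fintype F) (n : ℕ), 3 ≤ n ∧
      Nonempty (G ≃* Matrix.ProjectiveSpecialLinearGroup (Fin n) F) := by
  classical
  have hsimple := S.simple hgen
  obtain ⟨n, p, hn, P⟩ := S.exists_frame
  have h3 : ∀ i j : Fin n, ∃ k, i ≠ k ∧ j ≠ k := by
    intro i j
    have h4 : (({i, j} : Finset (Fin n))ᶜ).Nonempty := by
      rw [← Finset.card_pos, Finset.card_compl, Fintype.card_fin]
      have := Finset.card_le_two (a := i) (b := j)
      omega
    obtain ⟨k, hk⟩ := h4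
    simp only [Finset.mem_compl, Finset.mem_insert, Finset.mem_singleton, not_or] at hk
    exact ⟨k, fun h => hk.1 h.symm, fun h => hk.2 h.symm⟩
  have hg := S.graded P
  have hgK : ∀ K : Subgroup G, (∀ i j, i ≠ j → Xr N p i j ≤ K) → K = ⊤ := by
    intro K hK
    rw [eq_top_iff, ← hgen]
    exact iSup_le (S.gen P h3 hK)
  rcases Nat.lt_or_ge n 4 with h4 | h4
  · have hn3 : n = 3 := by omega
    subst hn3
    obtain ⟨F, i1, i2, x, hx, hX⟩ := A2Field.exists_field hg (S.rgd P h3)
    refine ⟨F, i1, i2, 3, le_rfl, nonempty_psl hx (by simp) ?_⟩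
    apply hgK
    intro i j hij y hy
    obtain ⟨a, ha, -⟩ := (hX i j hij).2 y hy
    exact subset_closure ⟨i, j, hij, a, ha.symm⟩
  · obtain ⟨F, i1, i2, -, -, h⟩ := hg.exists_psl (by simpa using h4) hgK
    exact ⟨F, i1, i2, n, hn, h⟩

end Ab

end Cfsg.Agent.H360.ON
end

-- part: H360/ON/Main
section
/-!
# O'Nan's theorem

* `genFit_eq` : `F*(A) = N` for a simple normal subgroup `N` with `C(N) = 1`.
* `exists_ab` : the equivariant family of an abelian normal subgroup of the point stabilizer.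
* `onan` : the generated normal subgroup is `PSL_n(F)`, `n ≥ 3`, with trivial centralizer.
-/

set_option autoImplicit false

namespace Cfsg.Agent.H360.ON

open Subgroup MulAction Cfsg Cfsg.Agent.SignalizersComponents

theorem genFit_eq {A : Type*} [Group A] [Finite A] {N : Subgroup A} (hN : N.Normal) (hs : IsSimpleGroup N)
    (hna : ¬ IsMulCommutative N) (hc : centralizer (N : Set A) = ⊥) : generalizedFittingSubgroup A = N := by
  have hNc : IsComponent N := ⟨hN.isSubnormal, IntrinsicDiag.quasisimple_of_simple hs hna⟩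
  have hNl : N ≤ layer A := Components.component_le_layer hNc
  have hl : layer A ≤ N := by
    rw [Components.layer_le_iff]
    intro L hL
    by_contra hne
    have hLN : L ≠ N := fun h => hne (h ▸ le_rfl)
    have h1 := Components.component_le_centralizer_of_ne hL hNc hLN
    rw [hc, le_bot_iff] at h1
    exact Components.component_ne_bot hL h1
  have hf : fittingSubgroup A ≤ N := by
    have h1 : fittingSubgroup A ≤ centralizer (N : Set A) := by
      rw [le_centralizer_iff]
      exact hNl.trans Components.layer_le_centralizer_fitting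
    rw [hc, le_bot_iff] at h1
    rw [h1]; exact bot_le
  exact le_antisymm (sup_le hl hf) (hNl.trans le_sup_left)

variable {G X : Type*} [Group G] [MulAction G X]

/-- the family of conjugates of `N₀ ≤ G_x` -/
def fam (N₀ : Subgroup G) (x a : X) : Subgroup G where
  carrier := {n | ∀ h : G, h • x = a → h⁻¹ * n * h ∈ N₀}
  mul_mem' := by
    intro m n hm hn h hh
    have h1 : h⁻¹ * (m * n) * h = (h⁻¹ * m * h) * (h⁻¹ * n * h) := by group
    rw [h1]
    exact mul_mem (hm h hh) (hn h hh)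
  one_mem' := by
    intro h _
    have h1 : h⁻¹ * 1 * h = 1 := by group
    rw [h1]
    exact one_mem _
  inv_mem' := by
    intro m hm h hh
    have h1 : h⁻¹ * m⁻¹ * h = (h⁻¹ * m * h)⁻¹ := by group
    rw [h1]
    exact inv_mem (hm h hh)

theorem exists_fam (h2 : IsMultiplyPretransitive G X 2) (x : X) (N₀ : Subgroup G) (hle : N₀ ≤ stabilizer G x)
    (hn : ∀ g ∈ stabilizer G x, ∀ n ∈ N₀, g * n * g⁻¹ ∈ N₀)
    (hnsr : ∃ n ∈ N₀, n ≠ 1 ∧ ∃ y : X, y ≠ x ∧ n • y = y) : Fam (fam N₀ x) ∧ fam N₀ x x = N₀ := by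
  have htwo : ∀ a b c d : X, a ≠ b → c ≠ d → ∃ g : G, g • a = c ∧ g • b = d := by
    intro a b c d hab hcd
    exact is_two_pretransitive_iff.1 h2 hab hcd
  obtain ⟨m, hm, hm1, y, hyx, hmy⟩ := hnsr
  have htr : ∀ a : X, ∃ g : G, g • x = a := by
    intro a
    by_cases hax : a = x
    · exact ⟨1, by rw [one_smul, hax]⟩
    · obtain ⟨g, hg, -⟩ := htwo x y a x (Ne.symm hyx) hax
      exact ⟨g, hg⟩
  have hN : fam N₀ x x = N₀ := by
    ext n
    constructor
    · intro h
      have h1 := h 1 (one_smul _ _)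
      simpa using h1
    · intro h g hg
      have h1 := hn g⁻¹ (by rw [mem_stabilizer_iff, inv_smul_eq_iff, hg]) n h
      rwa [inv_inv] at h1
  refine ⟨⟨htwo, ?_, ?_, ?_⟩, hN⟩
  · intro a n hna
    obtain ⟨g, rfl⟩ := htr a
    have h1 := hle (hna g rfl)
    rw [mem_stabilizer_iff, mul_smul, mul_smul, inv_smul_eq_iff] at h1
    exact h1
  · intro g a n hna h hh
    have h1 := hna (g⁻¹ * h) (by rw [mul_smul, hh, inv_smul_smul])
    have h3 : h⁻¹ * (g * n * g⁻¹) * h = (g⁻¹ * h)⁻¹ * n * (g⁻¹ * h) := by group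
    rw [h3]
    exact h1
  · exact ⟨x, y, Ne.symm hyx, m, by rw [hN]; exact hm, hm1, hmy⟩

theorem exists_ab [Finite G] [FaithfulSMul G X] (h2 : IsMultiplyPretransitive G X 2) (x : X) (N₀ : Subgroup G)
    (hle : N₀ ≤ stabilizer G x)
    (hn : ∀ g ∈ stabilizer G x, ∀ n ∈ N₀, g * n * g⁻¹ ∈ N₀) (hab : IsMulCommutative N₀)
    (hnsr : ∃ n ∈ N₀, n ≠ 1 ∧ ∃ y : X, y ≠ x ∧ n • y = y) : Ab (fam N₀ x) := by
  obtain ⟨F, hN⟩ := exists_fam h2 x N₀ hle hn hnsr
  have hc : ∀ a, ∀ m ∈ fam N₀ x a, ∀ n ∈ fam N₀ x a, m * n = n * m := by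
    intro a m hm n hna
    obtain ⟨g, hg⟩ : ∃ g : G, g • x = a := by
      by_cases hax : a = x
      · exact ⟨1, by rw [one_smul, hax]⟩
      · obtain ⟨-, -, -, y, hyx, -⟩ := hnsr
        obtain ⟨g, hg, -⟩ := F.two x y a x (Ne.symm hyx) hax
        exact ⟨g, hg⟩
    have h1 := hm g hg
    have h3 := hna g hg
    have h4 : (g⁻¹ * m * g) * (g⁻¹ * n * g) = (g⁻¹ * n * g) * (g⁻¹ * m * g) :=
      congrArg Subtype.val (hab.is_comm.comm ⟨_, h1⟩ ⟨_, h3⟩)
    have h5 : m * n = g * ((g⁻¹ * m * g) * (g⁻¹ * n * g)) * g⁻¹ := by group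
    have h6 : n * m = g * ((g⁻¹ * n * g) * (g⁻¹ * m * g)) * g⁻¹ := by group
    rw [h5, h6, h4]
  exact ⟨⟨F, F.ti_of_comm hc⟩, hc⟩

/-- **O'Nan's theorem.** -/
theorem onan [Finite G] [Finite X] [FaithfulSMul G X] {N : X → Subgroup G} (S : Ab N) :
    (⨆ a, N a : Subgroup G).Normal ∧ centralizer ((⨆ a, N a : Subgroup G) : Set G) = ⊥ ∧
    IsSimpleGroup ↥(⨆ a, N a : Subgroup G) ∧ ¬ IsMulCommutative ↥(⨆ a, N a : Subgroup G) ∧
    ∃ (F : Type) (_ : Field F) (_ : Fintype F) (n : ℕ), 3 ≤ n ∧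
      Nonempty (↥(⨆ a, N a : Subgroup G) ≃* Matrix.ProjectiveSpecialLinearGroup (Fin n) F) := by
  have hc := S.centralizer_eq_bot
  refine ⟨S.closure_normal, hc, S.restrict.simple S.restrict_gen, ?_, S.restrict.psl S.restrict_gen⟩
  intro h
  obtain ⟨a, b, -, x, hx, hx1, -⟩ := S.nsr
  apply hx1
  have h1 : x ∈ centralizer ((⨆ a, N a : Subgroup G) : Set G) := by
    rw [mem_centralizer_iff]
    intro y hy
    exact congrArg Subtype.val (h.is_comm.comm ⟨y, hy⟩ ⟨x, le_iSup N a hx⟩)
  rw [hc] at h1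
  exact mem_bot.1 h1

end Cfsg.Agent.H360.ON
end
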